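import Cfsg.Agent.Lib.He.Tau
import Cfsg.Agent.Lib.J3.Mat
import Cfsg.Agent.Lib.Classical.SpOrder

/-!
The symplectic group over a field with four elements inside the stabiliser, with index two.
-/

set_option autoImplicit false
set_option maxRecDepth 100000

namespace CfsgLib.He

open CfsgLib.PresCert Matrix CfsgLib.J3

/-- Addition of codes. -/
def cAdd (a b : Fin 4) : Fin 4 :=
  ([0, 1, 2, 3, 1, 0, 3, 2, 2, 3, 0, 1, 3, 2, 1, 0] : List (Fin 4)).getD (4 * a.val + b.val) 0

/-- Multiplication of codes. -/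
def cMul (a b : Fin 4) : Fin 4 :=
  ([0, 0, 0, 0, 0, 1, 2, 3, 0, 2, 3, 1, 0, 3, 1, 2] : List (Fin 4)).getD (4 * a.val + b.val) 0

theorem exists_galoisFld : Nonempty (Fld (GaloisField 2 2)) := by
  haveI : Fintype (GaloisField 2 2) := Fintype.ofFinite _
  have hF : Fintype.card (GaloisField 2 2) = 4 := by
    rw [Fintype.card_eq_nat_card, GaloisField.card 2 2 two_ne_zero]; norm_num
  classical
  obtain ⟨w, hw⟩ : ∃ w : GaloisField 2 2, w ∉ ({1, 0} : Finset (GaloisField 2 2)) := by
    by_contra h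
    have h1 := Finset.card_le_card (s := (Finset.univ : Finset (GaloisField 2 2)))
      (t := {1, 0}) fun x _ => not_not.1 fun hx => h ⟨x, hx⟩
    rw [Finset.card_univ, hF] at h1
    have h2 := Finset.card_le_two (a := (1 : GaloisField 2 2)) (b := 0)
    omega
  simp only [Finset.mem_insert, Finset.mem_singleton, not_or] at hw
  have h3 : w ^ 3 = 1 := by
    have := FiniteField.pow_card_sub_one_eq_one w hw.2
    rwa [hF] at this
  have h : (w - 1) * (w ^ 2 + w + 1) = 0 := by linear_combination h3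
  exact ⟨(exists_fld hF w ((mul_eq_zero.1 h).resolve_left (sub_ne_zero.2 hw.1))).choose⟩

/-- A primitive cube root of unity in the field with four elements. -/
noncomputable def fieldK : Fld (GaloisField 2 2) := exists_galoisFld.some

variable {F : Type*} [Field F] (K : Fld F)

/-- The value of a code. -/
def cv (a : Fin 4) : F := val2 K (a.val % 2 == 1) (a.val / 2 == 1)

theorem cv_add (a b : Fin 4) : cv K (cAdd a b) = cv K a + cv K b := by
  rw [cv, cv, cv, val2_add]
  congr 1 <;> revert a b <;> decide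

theorem cv_mul (a b : Fin 4) : cv K (cMul a b) = cv K a * cv K b := by
  rw [cv, cv, cv, val2_mul]
  congr 1 <;> revert a b <;> decide

theorem cv_zero : cv K 0 = 0 := by simp [cv, val2]

theorem cv_one : cv K 1 = 1 := by simp [cv, val2]

theorem cv_surj (x : F) : ∃ a : Fin 4, cv K a = x := by
  rcases K.elems x with rfl | rfl | rfl | rfl
  · exact ⟨0, cv_zero K⟩
  · exact ⟨1, cv_one K⟩
  · exact ⟨2, by simp [cv, val2]⟩
  · exact ⟨3, by simp [cv, val2]⟩

theorem cv_ne_zero {a : Fin 4} (ha : a ≠ 0) : cv K a ≠ 0 := by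
  intro h
  have e : ∀ a : Fin 4, a ≠ 0 → ∃ b, cMul a b = 1 := by decide
  obtain ⟨b, hb⟩ := e a ha
  have := cv_mul K a b
  rw [hb, cv_one, h, zero_mul] at this
  exact one_ne_zero this

theorem cv_inj : Function.Injective (cv K) := by
  intro a b h
  by_contra hab
  have e : ∀ a b : Fin 4, a ≠ b → cAdd a b ≠ 0 := by decide
  refine cv_ne_zero K (e a b hab) ?_
  rw [cv_add, h]
  linear_combination cv K b * K.two

/-- The position of an index. -/
def ix4 : Fin 2 ⊕ Fin 2 → Fin 4
  | .inl i => ⟨i.val, by omega⟩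
  | .inr i => ⟨2 + i.val, by omega⟩

/-- A coordinate of a block. -/
def coord (k : Fin 85) (j : Fin 4) : Fin 4 :=
  Fin.ofNat 4 ((coords.getD k.val []).getD j.val 0)

/-- An entry of one of the four matrices. -/
def entry (g : ℕ) (i j : Fin 4) : Fin 4 :=
  Fin.ofNat 4 (((matsN.getD g []).getD i.val []).getD j.val 0)

/-- A sum of four codes. -/
def cSum (f : Fin 4 → Fin 4) : Fin 4 := cAdd (cAdd (f 0) (f 1)) (cAdd (f 2) (f 3))

theorem coord_cover : ∀ a b c d : Fin 4, ¬ (a = 0 ∧ b = 0 ∧ c = 0 ∧ d = 0) →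
    ∃ k : Fin 85, ∃ s : Fin 4, s ≠ 0 ∧ cMul s (coord k 0) = a ∧ cMul s (coord k 1) = b ∧
      cMul s (coord k 2) = c ∧ cMul s (coord k 3) = d := by
  decide +kernel

theorem coord_sep : (List.range 85).all (fun i => (List.range 85).all fun j =>
    Nat.beq i j || ([1, 2, 3] : List (Fin 4)).all fun s =>
      !((List.range 4).all fun r => Nat.beq
        (cMul s (coord (Fin.ofNat 85 j) (Fin.ofNat 4 r))).val
        (coord (Fin.ofNat 85 i) (Fin.ofNat 4 r)).val)) = true ∧
    ((List.range 85).all fun k => (List.range 4).any fun r =>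
      !(Nat.beq (coord (Fin.ofNat 85 k) (Fin.ofNat 4 r)).val 0)) = true := by
  decide +kernel

/-- The standard form, as codes. -/
def cJ (i j : Fin 4) : Fin 4 := if i.val % 2 = j.val % 2 ∧ i ≠ j then 1 else 0

theorem mats_symp : ∀ g < 4, ∀ i j : Fin 4,
    cSum (fun a => cSum fun b => cMul (cMul (entry g i a) (cJ a b)) (entry g j b)) = cJ i j := by
  decide +kernel

theorem mats_img : ∀ g < 4, ∀ k : Fin 85, ∃ s : Fin 4, s ≠ 0 ∧ ∀ i : Fin 4,
    cSum (fun j => cMul (entry g i j) (coord k j)) =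
      cMul s (coord (Fin.ofNat 85 (tabN.img g k.val)) i) := by
  decide +kernel

theorem tabN_eq : tabN.ng = 4 ∧ (List.range 4).all (fun g => (List.range 85).all fun k =>
    Nat.blt (tabN.img g k) 85 &&
      Nat.beq (tabB.walk k (gensN.getD g [])) (tabN.img g k)) = true ∧
    gensN.all (fun w => w.all fun a => Nat.blt a 7) = true ∧ gensN.length = 4 := by
  decide +kernel

theorem levelsN_ok : levelsOk tabN [] levelsN = true ∧
    (levelsN.map fun l => l.pts.length).prod = 979200 := by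
  decide +kernel

/-- The vector of a block. -/
def vec (k : Fin 85) : Fin 2 ⊕ Fin 2 → F := fun x => cv K (coord k (ix4 x))

theorem vec_unique {i j : Fin 85} {c : F} (hc : c ≠ 0) (h : vec K i = c • vec K j) : i = j := by
  obtain ⟨s, rfl⟩ := cv_surj K c
  have hs : s ≠ 0 := fun e => hc (by rw [e, cv_zero])
  by_contra hij
  have h1 := coord_sep.1
  simp only [List.all_eq_true, List.mem_range, Bool.or_eq_true, Bool.not_eq_true',
    Nat.beq_eq] at h1
  rcases h1 i.val i.isLt j.val j.isLt with e | e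
  · exact hij (Fin.ext e)
  have hm : s ∈ ([1, 2, 3] : List (Fin 4)) :=
    (show ∀ z : Fin 4, z ≠ 0 → z ∈ ([1, 2, 3] : List (Fin 4)) by decide) s hs
  have e' := e s hm
  rw [List.all_eq_false] at e'
  obtain ⟨r, hr, hne⟩ := e'
  simp only [List.mem_range] at hr
  simp only [Nat.beq_eq] at hne
  refine hne (congrArg Fin.val (cv_inj K ?_))
  rw [cv_mul, Fin.ofNat_val_eq_self, Fin.ofNat_val_eq_self]
  obtain ⟨x, hx⟩ : ∃ x, ix4 x = Fin.ofNat 4 r := by
    generalize Fin.ofNat 4 r = z
    revert z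
    decide
  rw [← hx]
  have := congrFun h x
  simpa [vec] using this.symm

theorem vec_ne_zero (k : Fin 85) : vec K k ≠ 0 := by
  intro h
  have h1 := coord_sep.2
  simp only [List.all_eq_true, List.any_eq_true, List.mem_range, Bool.not_eq_true'] at h1
  obtain ⟨r, hr, hne⟩ := h1 k.val k.isLt
  obtain ⟨x, hx⟩ : ∃ x, ix4 x = Fin.ofNat 4 r := by
    generalize Fin.ofNat 4 r = z
    revert z
    decide
  have hx' := congrFun h x
  rw [vec, hx, Pi.zero_apply, ← cv_zero K] at hx'
  have e := cv_inj K hx'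
  rw [Fin.ofNat_val_eq_self] at hne
  rw [e] at hne
  exact absurd hne (by decide)

theorem vec_cover {v : Fin 2 ⊕ Fin 2 → F} (hv : v ≠ 0) :
    ∃ k : Fin 85, ∃ c : F, c ≠ 0 ∧ v = c • vec K k := by
  obtain ⟨a, ha⟩ := cv_surj K (v (.inl 0))
  obtain ⟨b, hb⟩ := cv_surj K (v (.inl 1))
  obtain ⟨c, hc⟩ := cv_surj K (v (.inr 0))
  obtain ⟨d, hd⟩ := cv_surj K (v (.inr 1))
  have hne : ¬ (a = 0 ∧ b = 0 ∧ c = 0 ∧ d = 0) := by
    rintro ⟨rfl, rfl, rfl, rfl⟩
    refine hv (funext fun x => ?_)
    rw [cv_zero] at ha hb hc hd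
    rcases x with x | x <;> fin_cases x <;> simp [← ha, ← hb, ← hc, ← hd]
  obtain ⟨k, s, hs, e0, e1, e2, e3⟩ := coord_cover a b c d hne
  refine ⟨k, cv K s, cv_ne_zero K hs, funext fun x => ?_⟩
  rw [Pi.smul_apply, smul_eq_mul, vec, ← cv_mul]
  rcases x with x | x <;> fin_cases x <;> simp [ix4, e0, e1, e2, e3, ha, hb, hc, hd]

/-- A matrix carries the points as a permutation says. -/
def MapsPts (A : Matrix (Fin 2 ⊕ Fin 2) (Fin 2 ⊕ Fin 2) F) (π : Equiv.Perm (Fin 85)) : Prop :=
  ∀ k, ∃ c : F, c ≠ 0 ∧ A *ᵥ vec K k = c • vec K (π k)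

variable {K}

theorem MapsPts.unique {A : Matrix (Fin 2 ⊕ Fin 2) (Fin 2 ⊕ Fin 2) F}
    {π π' : Equiv.Perm (Fin 85)} (h : MapsPts K A π) (h' : MapsPts K A π') : π = π' := by
  refine Equiv.ext fun k => ?_
  obtain ⟨c, hc, e⟩ := h k
  obtain ⟨c', hc', e'⟩ := h' k
  refine vec_unique K (c := c⁻¹ * c') (mul_ne_zero (inv_ne_zero hc) hc') ?_
  rw [mul_smul, ← e', e, inv_smul_smul₀ hc]

theorem MapsPts.mul {A B : Matrix (Fin 2 ⊕ Fin 2) (Fin 2 ⊕ Fin 2) F}
    {π π' : Equiv.Perm (Fin 85)} (h : MapsPts K A π) (h' : MapsPts K B π') :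
    MapsPts K (A * B) (π * π') := fun k => by
  obtain ⟨c', hc', e'⟩ := h' k
  obtain ⟨c, hc, e⟩ := h (π' k)
  exact ⟨c' * c, mul_ne_zero hc' hc, by
    rw [← mulVec_mulVec, e', mulVec_smul, e, smul_smul, Equiv.Perm.mul_apply]⟩

theorem MapsPts.one : MapsPts K 1 1 := fun k => ⟨1, one_ne_zero, by simp⟩

variable (K)

theorem mapsPts_exists (A : symplecticGroup (Fin 2) F) : ∃ π, MapsPts K A.val π := by
  have hinj : ∀ v : Fin 2 ⊕ Fin 2 → F, A.val *ᵥ v = 0 → v = 0 := fun v h => by
    have e := congrArg (fun w => (A⁻¹).val *ᵥ w) h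
    simp only [mulVec_mulVec, mulVec_zero] at e
    rwa [← Submonoid.coe_mul, inv_mul_cancel, OneMemClass.coe_one, one_mulVec] at e
  choose f hf using fun k : Fin 85 =>
    vec_cover K (fun h => vec_ne_zero K k (hinj _ h) : A.val *ᵥ vec K k ≠ 0)
  have hfi : Function.Injective f := fun i j e => by
    obtain ⟨c, hc, hi⟩ := hf i
    obtain ⟨d, hd, hj⟩ := hf j
    refine vec_unique K (c := c * d⁻¹) (mul_ne_zero hc (inv_ne_zero hd)) (sub_eq_zero.1 (hinj _ ?_))
    rw [mulVec_sub, mulVec_smul, hi, hj, e, smul_smul, inv_mul_cancel_right₀ hd, sub_self]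
  exact ⟨Equiv.ofBijective f ⟨hfi, Finite.injective_iff_surjective.1 hfi⟩, hf⟩

/-- The action of the symplectic group on the points. -/
noncomputable def sigma : symplecticGroup (Fin 2) F →* Equiv.Perm (Fin 85) where
  toFun A := (mapsPts_exists K A).choose
  map_one' := (mapsPts_exists K 1).choose_spec.unique MapsPts.one
  map_mul' A B := (mapsPts_exists K (A * B)).choose_spec.unique
    ((mapsPts_exists K A).choose_spec.mul (mapsPts_exists K B).choose_spec)

/-- One of the four matrices. -/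
def mat (g : ℕ) : Matrix (Fin 2 ⊕ Fin 2) (Fin 2 ⊕ Fin 2) F :=
  Matrix.of fun i j => cv K (entry g (ix4 i) (ix4 j))

theorem sum_four (f : Fin 2 ⊕ Fin 2 → F) :
    ∑ x, f x = f (.inl 0) + f (.inl 1) + (f (.inr 0) + f (.inr 1)) := by
  simp [Fintype.sum_sum_type, Fin.sum_univ_two]

theorem cv_sum (f : Fin 4 → Fin 4) : cv K (cSum f) = ∑ x, cv K (f (ix4 x)) := by
  rw [sum_four, cSum, cv_add, cv_add, cv_add]
  rfl

theorem J_eq : (Matrix.J (Fin 2) F) = Matrix.of fun i j => cv K (cJ (ix4 i) (ix4 j)) := by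
  have hneg : (-1 : F) = 1 := by linear_combination (-1 : F) * K.two
  refine Matrix.ext fun i j => ?_
  rcases i with i | i <;> rcases j with j | j <;> fin_cases i <;> fin_cases j <;>
    simp [Matrix.J, cJ, ix4, hneg, cv_zero, cv_one]

theorem mat_symp {g : ℕ} (hg : g < 4) : mat K g ∈ symplecticGroup (Fin 2) F := by
  rw [SymplecticGroup.mem_iff, J_eq K]
  refine Matrix.ext fun i j => ?_
  have h := congrArg (cv K) (mats_symp g hg (ix4 i) (ix4 j))
  simp only [cv_sum, cv_mul] at h
  rw [Matrix.of_apply, ← h, Matrix.mul_apply]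
  simp only [Matrix.mul_apply, Matrix.transpose_apply, mat, Matrix.of_apply, Finset.sum_mul]
  exact Finset.sum_comm

theorem sigma_mat {g : ℕ} (hg : g < 4) (k : Fin 85) :
    ((sigma K ⟨mat K g, mat_symp K hg⟩ k : Fin 85) : ℕ) = tabN.img g k.val := by
  have hlt : tabN.img g k.val < 85 := by
    have h := tabN_eq.2.1
    simp only [List.all_eq_true, List.mem_range, Bool.and_eq_true, Nat.blt_eq] at h
    exact (h g hg k.val k.isLt).1
  obtain ⟨c, hc, e⟩ := (mapsPts_exists K ⟨mat K g, mat_symp K hg⟩).choose_spec k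
  obtain ⟨s, hs, hi⟩ := mats_img g hg k
  have e' : mat K g *ᵥ vec K k = cv K s • vec K (⟨_, hlt⟩ : Fin 85) := funext fun x => by
    have h := congrArg (cv K) (hi (ix4 x))
    simp only [cv_sum, cv_mul] at h
    rw [show (⟨_, hlt⟩ : Fin 85) = Fin.ofNat 85 (tabN.img g k.val) from
      Fin.ext (Nat.mod_eq_of_lt hlt).symm, Pi.smul_apply, smul_eq_mul]
    exact h
  have := vec_unique K (c := c⁻¹ * cv K s) (mul_ne_zero (inv_ne_zero hc) (cv_ne_zero K hs))
    (i := sigma K ⟨mat K g, mat_symp K hg⟩ k) (j := ⟨_, hlt⟩)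
    (by rw [mul_smul, ← e']; exact (eq_inv_smul_iff₀ hc).2 e.symm)
  rw [this]

/-- The subgroup of index two. -/
noncomputable def subN : Subgroup subH := (sigma K).range.comap tau

/-- The images of the four generators. -/
noncomputable def permN (g : ℕ) : Equiv.Perm (Fin 85) :=
  tauT (act subGen (gensN.getD g []))

theorem permN_apply {g : ℕ} (hg : g < 4) (k : Fin 85) :
    ((permN g k : Fin 85) : ℕ) = tabN.img g k.val := by
  have h := tabN_eq.2.1
  simp only [List.all_eq_true, List.mem_range, Bool.and_eq_true, Nat.beq_eq] at h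
  rw [← (h g hg k.val k.isLt).2]
  have hw := tabN_eq.2.2.1
  simp only [List.all_eq_true, Nat.blt_eq] at hw
  refine realisedB.act_apply (w := gensN.getD g []) (fun a ha => ?_) k
  have hgl : g < gensN.length := by have := tabN_eq.2.2.2; omega
  rw [List.getD_eq_getElem _ _ hgl] at ha
  rw [levelsB_ok.2.2.1]
  exact hw _ (List.getElem_mem _) a ha

theorem sigma_range [Fintype F] (hF : Fintype.card F = 4) :
    (sigma K).range ≤ tau.range ∧ Function.Injective (sigma K) := by
  let C : Subgroup (Equiv.Perm (Fin 85)) := Subgroup.closure (permN '' {g | g < 4})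
  have hgen : ∀ g (hg : g < 4), permN g = sigma K ⟨mat K g, mat_symp K hg⟩ := fun g hg =>
    Equiv.ext fun k => Fin.ext (by rw [permN_apply hg, sigma_mat K hg])
  have hle : C ≤ (sigma K).range := (Subgroup.closure_le _).2 (by
    rintro _ ⟨g, hg, rfl⟩
    exact ⟨_, (hgen g hg).symm⟩)
  have hle' : C ≤ tau.range := (Subgroup.closure_le _).2 (by
    rintro _ ⟨g, -, rfl⟩
    exact ⟨_, rfl⟩)
  let φ : C →* Equiv.Perm (Fin tabN.n) := C.subtype
  let gen : ℕ → C := fun g => if hg : g < 4 then ⟨permN g, Subgroup.subset_closure ⟨g, hg, rfl⟩⟩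
    else 1
  have R : Realised gen tabN φ := by
    refine ⟨fun g i hg hi => ?_, fun g hg i => ?_⟩
    · have h := tabN_eq.2.1
      simp only [List.all_eq_true, List.mem_range, Bool.and_eq_true, Nat.blt_eq] at h
      exact (h g (tabN_eq.1 ▸ hg) i hi).1
    · have hg' : g < 4 := tabN_eq.1 ▸ hg
      simp only [gen, dif_pos hg']
      exact permN_apply hg' i
  have h1 := card_lower R levelsN_ok.1
  rw [levelsN_ok.2, fixSub_nil, Subgroup.card_top] at h1
  have h2 : 979200 ≤ Nat.card C := le_trans (Nat.le_mul_of_pos_right _ Nat.card_pos) h1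
  haveI : Finite (symplecticGroup (Fin 2) F) := Finite.of_injective _ Subtype.val_injective
  have h3 : Nat.card (symplecticGroup (Fin 2) F) = 979200 := by
    rw [CfsgLib.Classical.card_sp, hF]
    decide
  have h4 := Subgroup.card_le_of_le hle
  have h5 : Nat.card (sigma K).range ≤ 979200 := h3 ▸ Nat.card_le_card_of_surjective _
    (sigma K).rangeRestrict_surjective
  have hC : C = (sigma K).range := Subgroup.eq_of_le_of_card_ge hle (by omega)
  refine ⟨hC ▸ hle', ?_⟩
  have hb : Function.Bijective (sigma K).rangeRestrict :=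
    (Nat.bijective_iff_surjective_and_card _).2 ⟨(sigma K).rangeRestrict_surjective, by omega⟩
  exact fun a b e => hb.1 (Subtype.ext e)

/-- The subgroup of index two is a symplectic group. -/
theorem subN_spec [Fintype F] (hF : Fintype.card F = 4) :
    (subN K).Normal ∧ (subN K).index = 2 ∧ Nonempty (subN K ≃* symplecticGroup (Fin 2) F) := by
  obtain ⟨hle, hinj⟩ := sigma_range K hF
  have hmap : (subN K).map tau = (sigma K).range := by
    rw [subN, Subgroup.map_comap_eq_self hle]
  let e : subN K ≃* symplecticGroup (Fin 2) F :=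
    ((Subgroup.equivMapOfInjective _ tau tau_injective).trans (MulEquiv.subgroupCongr hmap)).trans
      (MonoidHom.ofInjective hinj).symm
  have h3 : Nat.card (symplecticGroup (Fin 2) F) = 979200 := by
    rw [CfsgLib.Classical.card_sp, hF]
    decide
  have hi : (subN K).index = 2 := by
    have h := (subN K).card_mul_index
    rw [Nat.card_congr e.toEquiv, h3, card_subH] at h
    omega
  exact ⟨Subgroup.normal_of_index_eq_two hi, hi, ⟨e⟩⟩

end CfsgLib.He
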