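import Cfsg.Agent.Lib.He.Perm
import Cfsg.Agent.Lib.He.BlockData

/-!
The stabiliser in the presented Held group acts faithfully on 85 blocks of five points.
-/

set_option autoImplicit false
set_option maxRecDepth 100000

namespace CfsgLib.He

open CfsgLib.PresCert

theorem blocks_ok : blocks.length = 85 ∧
    (List.range 85).all (fun k => (blocks.getD k []).all (fun p => Nat.blt p tab.n) &&
      !(blocks.getD k []).isEmpty) = true ∧
    nodupB 0 blocks.flatten = true := by
  decide +kernel

theorem blocks_map : (List.range 7).all (fun g => (List.range 85).all fun k =>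
    Nat.blt (tabB.img g k) 85 && (blocks.getD k []).all fun p =>
      (blocks.getD (tabB.img g k) []).contains (tab.walk p (subWords.getD g []))) = true := by
  decide +kernel

theorem blocks_inj : ∀ g, g < 7 →
    nodupB 0 ((List.range 85).map fun k => tabB.img g k) = true := by
  decide +kernel

theorem levelsB_ok : levelsOk tabB [] levelsB = true ∧
    (levelsB.map fun l => l.pts.length).prod = 1958400 ∧ tabB.ng = 7 ∧ subWords.length = 7 := by
  decide +kernel

theorem blocks_unique {p j k : ℕ} (hj : p ∈ blocks.getD j []) (hk : p ∈ blocks.getD k []) :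
    j = k := by
  have hn : blocks.flatten.Nodup := (nodupB_spec blocks_ok.2.2).1
  rw [List.nodup_flatten, List.pairwise_iff_getElem] at hn
  have hlt : ∀ {i : ℕ}, p ∈ blocks.getD i [] → i < blocks.length := fun {i} h => by
    by_contra hi
    rw [List.getD_eq_default _ _ (Nat.le_of_not_lt hi)] at h
    exact List.not_mem_nil h
  have hj' := hlt hj
  have hk' := hlt hk
  rw [List.getD_eq_getElem _ _ hj'] at hj
  rw [List.getD_eq_getElem _ _ hk'] at hk
  rcases Nat.lt_trichotomy j k with h | h | h
  · exact absurd hk (hn.2 j k hj' hk' h hj)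
  · exact h
  · exact absurd hj (hn.2 k j hk' hj' h hk)

/-- An element carries the blocks to blocks as a permutation says. -/
def Maps (m : Cfsg.Spor.He) (π : Equiv.Perm (Fin 85)) : Prop :=
  ∀ (k : Fin 85) (p : Fin tab.n), p.val ∈ blocks.getD k.val [] →
    (phi m p).val ∈ blocks.getD (π k).val []

theorem Maps.unique {m : Cfsg.Spor.He} {π π' : Equiv.Perm (Fin 85)} (h : Maps m π)
    (h' : Maps m π') : π = π' := by
  refine Equiv.ext fun k => Fin.ext ?_
  have h0 := blocks_ok.2.1
  simp only [List.all_eq_true, List.mem_range, Bool.and_eq_true, Nat.blt_eq, Bool.not_eq_true',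
    List.isEmpty_eq_false_iff_exists_mem] at h0
  obtain ⟨h1, p, hp⟩ := h0 k.val k.isLt
  exact blocks_unique (h k ⟨p, h1 p hp⟩ hp) (h' k ⟨p, h1 p hp⟩ hp)

theorem Maps.mul {a b : Cfsg.Spor.He} {π π' : Equiv.Perm (Fin 85)} (ha : Maps a π)
    (hb : Maps b π') : Maps (a * b) (π * π') := fun k p hp => by
  rw [map_mul, Equiv.Perm.mul_apply]
  exact ha _ _ (hb k p hp)

theorem Maps.one : Maps 1 1 := fun k p hp => by simpa using hp

theorem tabB_lt {g k : ℕ} (hg : g < 7) (hk : k < 85) : tabB.img g k < 85 := by
  have h := blocks_map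
  simp only [List.all_eq_true, List.mem_range, Bool.and_eq_true, Nat.blt_eq] at h
  exact (h g hg k hk).1

theorem maps_exists {m : Cfsg.Spor.He} (hm : m ∈ subH) : ∃ π, Maps m π := by
  haveI := card_he.1
  refine Subgroup.closure_induction (fun s hs => ?_) ⟨1, .one⟩
    (fun a b _ _ ⟨π, ha⟩ ⟨π', hb⟩ => ⟨π * π', ha.mul hb⟩) (fun a _ ⟨π, ha⟩ => ?_) hm
  · obtain ⟨w, hw, rfl⟩ := hs
    obtain ⟨g, hg, rfl⟩ := List.getElem_of_mem hw
    rw [← List.getD_eq_getElem subWords [] hg] at hw ⊢
    have hg7 : g < 7 := by have := levelsB_ok.2.2.2; omega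
    let f : Fin 85 → Fin 85 := fun k => ⟨tabB.img g k.val, tabB_lt hg7 k.isLt⟩
    have h1 : ∀ (k : Fin 85) (p : Fin tab.n), p.val ∈ blocks.getD k.val [] →
        (phi (act heGen (subWords.getD g [])) p).val ∈ blocks.getD (f k).val [] := by
      intro k p hp
      have h := blocks_map
      simp only [List.all_eq_true, List.mem_range, Bool.and_eq_true, List.contains_iff_mem] at h
      have e := (h g hg7 k.val k.isLt).2 _ hp
      have hlt := tab_subWords
      simp only [List.all_eq_true, Bool.and_eq_true, Nat.blt_eq] at hlt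
      rw [realised.act_apply (hlt _ hw).1]
      exact e
    have hf : Function.Injective f := fun i j e => by
      have hn := (nodupB_spec (blocks_inj g hg7)).1
      rw [List.nodup_iff_injective_getElem] at hn
      have := @hn ⟨i.val, by simp⟩ ⟨j.val, by simp⟩ (by simpa [f] using congrArg Fin.val e)
      exact Fin.ext (congrArg Fin.val this)
    exact ⟨Equiv.ofBijective f ⟨hf, Finite.injective_iff_surjective.1 hf⟩, h1⟩
  · have hp : ∀ n : ℕ, Maps (a ^ n) (π ^ n) := fun n => by
      induction n with
      | zero => simpa using Maps.one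
      | succ n ih => rw [pow_succ, pow_succ]; exact ih.mul ha
    refine ⟨π ^ (orderOf a - 1), ?_⟩
    have e : a⁻¹ = a ^ (orderOf a - 1) := inv_eq_of_mul_eq_one_right (by
      rw [← pow_succ', Nat.sub_add_cancel (orderOf_pos a), pow_orderOf_eq_one])
    rw [e]
    exact hp _

end CfsgLib.He
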