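import Cfsg.Agent.Lib.PresCert.Bound
import Cfsg.Agent.Lib.He.DataHe

/-!
Kernel checks of a certificate.
-/

set_option autoImplicit false
set_option maxRecDepth 100000

namespace CfsgLib.He

open CfsgLib.PresCert

theorem certHe_block0 : block certHe 0 = true := by decide +kernel

theorem certHe_block1 : block certHe 1 = true := by decide +kernel

theorem certHe_block2 : block certHe 2 = true := by decide +kernel

theorem certHe_block3 : block certHe 3 = true := by decide +kernel

theorem certHe_block4 : block certHe 4 = true := by decide +kernel

end CfsgLib.He
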