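import Cfsg.Agent.Lib.PresCert.Bound
import Cfsg.Agent.Lib.He.DataHe

/-!
Kernel checks of a certificate.
-/

set_option autoImplicit false
set_option maxRecDepth 100000

namespace CfsgLib.He

open CfsgLib.PresCert

theorem certHe_block5 : block certHe 5 = true := by decide +kernel

theorem certHe_block6 : block certHe 6 = true := by decide +kernel

theorem certHe_block7 : block certHe 7 = true := by decide +kernel

theorem certHe_block8 : block certHe 8 = true := by decide +kernel

theorem certHe_closed0 : closedBlock certHe (letters certHe) 0 = true := by decide +kernel

theorem certHe_closed1 : closedBlock certHe (letters certHe) 1 = true := by decide +kernel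

theorem certHe_closed2 : closedBlock certHe (letters certHe) 2 = true := by decide +kernel

theorem certHe_closed3 : closedBlock certHe (letters certHe) 3 = true := by decide +kernel

theorem certHe_closed4 : closedBlock certHe (letters certHe) 4 = true := by decide +kernel

theorem certHe_closed5 : closedBlock certHe (letters certHe) 5 = true := by decide +kernel

theorem certHe_closed6 : closedBlock certHe (letters certHe) 6 = true := by decide +kernel

theorem certHe_closed7 : closedBlock certHe (letters certHe) 7 = true := by decide +kernel

theorem certHe_closed8 : closedBlock certHe (letters certHe) 8 = true := by decide +kernel

end CfsgLib.He
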