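import Cfsg.Agent.Lib.PresCert.Bound
import Cfsg.Agent.Lib.He.DataCde
import Cfsg.Agent.Lib.He.DataAdefg
import Cfsg.Agent.Lib.He.DataK

/-!
Kernel checks of the small certificates.
-/

set_option autoImplicit false
set_option maxRecDepth 100000

namespace CfsgLib.He

open CfsgLib.PresCert

theorem certCde_valid : Valid certCde := by
  refine ⟨by decide +kernel, fun b hb => ?_⟩
  have hb0 : b = 0 := by have h : certCde.N = 512 := rfl; omega
  subst hb0
  decide +kernel

theorem certAdefg_valid : Valid certAdefg := by
  refine ⟨by decide +kernel, fun b hb => ?_⟩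
  have hb0 : b = 0 := by have h : certAdefg.N = 512 := rfl; omega
  subst hb0
  decide +kernel

theorem certAdefg_closed : Closed certAdefg [[0], [3], [4], [5], [6]] := by
  refine ⟨certAdefg_valid, by decide +kernel, fun b hb => ?_⟩
  have hb0 : b = 0 := by have h : certAdefg.n ≤ 512 := by decide +kernel
                         omega
  subst hb0
  decide +kernel

theorem certK_valid : Valid certK := by
  refine ⟨by decide +kernel, fun b hb => ?_⟩
  have hb0 : b = 0 := by have h : certK.N = 512 := rfl; omega
  subst hb0
  decide +kernel

theorem certK_closed : Closed certK [[0], [2], [3], [4], [5], [6]] := by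
  refine ⟨certK_valid, by decide +kernel, fun b hb => ?_⟩
  have hb0 : b = 0 := by have h : certK.n ≤ 512 := by decide +kernel
                         omega
  subst hb0
  decide +kernel

theorem cde_walk : endsAt certCde (certCde.rm - 1) (walk certCde (certCde.rm - 1) 0 [2, 3, 4, 2, 3, 4, 2, 3, 4, 2, 3, 4, 2, 3, 4]) 0 = true := by
  decide +kernel

end CfsgLib.He
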