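import Cfsg.Agent.Lib.He.Perm

/-!
The orbits of the point stabiliser.
-/

set_option autoImplicit false
set_option maxRecDepth 100000

namespace CfsgLib.He

open CfsgLib.PresCert

/-- The number of the suborbit of a point. -/
def labelOf (p : ℕ) : ℕ := look labels 256 3 p

/-- The suborbit check at a point. -/
def subBlock (b : ℕ) : Bool :=
  (List.range 1000).all fun j =>
    let p := 1000 * b + j
    let q := look subPars 256 15 p
    !(Nat.blt p tab.n) || (subWords.all fun w => Nat.beq (labelOf (tab.walk p w)) (labelOf p)) &&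
      (Nat.beq p (subRoots.getD (labelOf p) 0) ||
        Nat.blt (look subDepth 256 8 (q / 8)) (look subDepth 256 8 p) && Nat.blt (q % 8) 7 &&
          Nat.beq (labelOf (q / 8)) (labelOf p) && Nat.blt (q / 8) tab.n &&
          Nat.beq (tab.walk (q / 8) (subWords.getD (q % 8) [])) p)

theorem sub_ok : threeBlocks subBlock = true := by decide +kernel

/-- The numbers of points in the suborbits. -/
def counts : List ℕ := (List.range 5).map fun k =>
  ((List.range 2058).filter fun p => Nat.beq (labelOf p) k).length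

theorem counts_eq : counts = [1, 136, 136, 425, 1360] ∧ subRoots.all (fun r => Nat.blt r 2058) = true ∧
    (List.range 5).all (fun k => Nat.beq (labelOf (subRoots.getD k 0)) k) = true := by
  decide +kernel

theorem sub_spec {p : ℕ} (hp : p < tab.n) :
    (∀ w ∈ subWords, labelOf (tab.walk p w) = labelOf p) ∧
    (p = subRoots.getD (labelOf p) 0 ∨ ∃ q, q < tab.n ∧
      look subDepth 256 8 q < look subDepth 256 8 p ∧ labelOf q = labelOf p ∧
      ∃ w ∈ subWords, tab.walk q w = p) := by
  have hb := three_blocks sub_ok (b := p / 1000) (by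
    have hn : tab.n = 2058 := rfl
    omega)
  simp only [subBlock, List.all_eq_true, List.mem_range, Bool.or_eq_true, Bool.and_eq_true,
    Bool.not_eq_true', Nat.blt_eq, Nat.beq_eq] at hb
  have h' := hb (p % 1000) (Nat.mod_lt _ (by norm_num))
  rw [Nat.div_add_mod] at h'
  rcases h' with h | ⟨h1, h2⟩
  · have : Nat.blt p tab.n = true := by rw [Nat.blt_eq]; exact hp
    rw [this] at h
    exact Bool.noConfusion h
  refine ⟨h1, h2.imp id fun h => ?_⟩
  obtain ⟨⟨⟨⟨a, b⟩, c⟩, d⟩, e⟩ := h
  exact ⟨_, d, a, c, _, by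
    rw [List.getD_eq_getElem _ _ (show _ < subWords.length from b)]; exact List.getElem_mem _, e⟩

theorem subH_invariant {m : Cfsg.Spor.He} (hm : m ∈ subH) :
    ∀ p : Fin tab.n, labelOf (phi m p).val = labelOf p.val := by
  induction hm using Subgroup.closure_induction with
  | mem s hs =>
    obtain ⟨w, hw, rfl⟩ := hs
    intro p
    have h := tab_subWords
    simp only [List.all_eq_true, Bool.and_eq_true, Nat.blt_eq] at h
    rw [realised.act_apply (h w hw).1]
    exact (sub_spec p.isLt).1 w hw
  | one => intro p; simp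
  | mul a b _ _ ha hb => intro p; rw [map_mul, Equiv.Perm.mul_apply, ha, hb]
  | inv a _ ha =>
    intro p
    have := ha (phi a⁻¹ p)
    rw [← Equiv.Perm.mul_apply, ← map_mul, mul_inv_cancel, map_one, Equiv.Perm.one_apply] at this
    exact this.symm

theorem reach {k : ℕ} (hroot : subRoots.getD k 0 < tab.n) :
    ∀ d, ∀ p : Fin tab.n, look subDepth 256 8 p.val = d → labelOf p.val = k →
      ∃ m ∈ subH, phi m ⟨subRoots.getD k 0, hroot⟩ = p := by
  intro d
  induction d using Nat.strong_induction_on with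
  | h d ih =>
    intro p hd hk
    rcases (sub_spec p.isLt).2 with h | ⟨q, hq, hlt, hl, w, hw, e⟩
    · refine ⟨1, Subgroup.one_mem _, Fin.ext ?_⟩
      rw [map_one, Equiv.Perm.one_apply]
      show subRoots.getD k 0 = p.val
      rw [← hk, ← h]
    · obtain ⟨m, hm, hmq⟩ := ih _ (hd ▸ hlt) ⟨q, hq⟩ rfl (hl.trans hk)
      refine ⟨act heGen w * m, Subgroup.mul_mem _ (Subgroup.subset_closure ⟨w, hw, rfl⟩) hm,
        Fin.ext ?_⟩
      have h := tab_subWords
      simp only [List.all_eq_true, Bool.and_eq_true, Nat.blt_eq] at h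
      rw [map_mul, Equiv.Perm.mul_apply, hmq, realised.act_apply (h w hw).1]
      exact e

theorem root_lt {k : ℕ} (hk : k < 5) : subRoots.getD k 0 < tab.n := by
  have h := counts_eq.2.1
  simp only [List.all_eq_true, Nat.blt_eq] at h
  have hl : k < subRoots.length := by
    have : subRoots.length = 5 := rfl
    omega
  rw [List.getD_eq_getElem _ _ hl]
  exact h _ (List.getElem_mem _)

/-- The five orbits of the stabiliser on the cosets. -/
theorem coset_orbits : ∀ k, k < 5 → ∃ q : Cfsg.Spor.He ⧸ subH,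
    (MulAction.orbit subH q).ncard = counts.getD k 0 ∧
      ∀ r ∈ MulAction.orbit subH q, ∀ m : Cfsg.Spor.He, (m : Cfsg.Spor.He ⧸ subH) = r →
        labelOf (phi m ⟨0, show 0 < tab.n by decide +kernel⟩).val = k := by
  haveI := card_he.1
  intro k hk
  set z : Fin tab.n := ⟨0, show 0 < tab.n by decide +kernel⟩ with hz
  set root : Fin tab.n := ⟨_, root_lt hk⟩ with hroot
  obtain ⟨m₀, hm₀⟩ := stab_le.1 z root
  have hker : ∀ a b : Cfsg.Spor.He,
      (a : Cfsg.Spor.He ⧸ subH) = b ↔ phi a z = phi b z := by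
    intro a b
    rw [QuotientGroup.eq, subH_eq, mem_fixSub]
    constructor
    · intro h
      have h' := h z (by simp [hz])
      rw [map_mul, Equiv.Perm.mul_apply, map_inv, Equiv.Perm.inv_def, Equiv.symm_apply_eq] at h'
      exact h'.symm
    · intro h i hi
      have hiz : i = z := Fin.ext (List.mem_singleton.1 hi)
      subst hiz
      rw [map_mul, Equiv.Perm.mul_apply, ← h, map_inv, Equiv.Perm.inv_def, Equiv.symm_apply_apply]
  have hlabroot : labelOf root.val = k := by
    have h := counts_eq.2.2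
    simp only [List.all_eq_true, List.mem_range, Nat.beq_eq] at h
    exact h k hk
  have hlab : ∀ r ∈ MulAction.orbit subH (m₀ : Cfsg.Spor.He ⧸ subH), ∀ m : Cfsg.Spor.He,
      (m : Cfsg.Spor.He ⧸ subH) = r → labelOf (phi m z).val = k := by
    rintro r ⟨h, rfl⟩ m hm
    have e : (m : Cfsg.Spor.He ⧸ subH) = ((h.val * m₀ : Cfsg.Spor.He) : Cfsg.Spor.He ⧸ subH) := hm
    rw [(hker _ _).1 e, map_mul, Equiv.Perm.mul_apply, hm₀, subH_invariant h.2, hlabroot]
  refine ⟨(m₀ : Cfsg.Spor.He ⧸ subH), ?_, hlab⟩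
  classical
  let P : Finset ℕ := (Finset.range 2058).filter fun p => labelOf p = k
  have hP : P.card = counts.getD k 0 := by
    have e : counts.getD k 0 = ((List.range 2058).filter fun p => Nat.beq (labelOf p) k).length := by
      rw [counts, List.getD_eq_getElem _ _ (by simpa using hk)]
      simp
    rw [e, ← List.toFinset_card_of_nodup (List.nodup_range.filter _)]
    congr 1
    ext p
    simp [P, Nat.beq_eq]
  rw [← hP, ← Set.ncard_coe_finset]
  have hout : ∀ r : Cfsg.Spor.He ⧸ subH, (r.out : Cfsg.Spor.He ⧸ subH) = r := QuotientGroup.out_eq'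
  refine Set.ncard_congr (fun r _ => (phi r.out z).val) (fun r hr => ?_) (fun a b _ _ e => ?_)
    fun p hp => ?_
  · simp only [P, Finset.coe_filter, Finset.mem_range, Set.mem_ofPred_eq]
    exact ⟨lt_of_lt_of_eq (Fin.isLt _) rfl, hlab r hr _ (hout r)⟩
  · rw [← hout a, ← hout b, hker]
    exact Fin.ext e
  · simp only [P, Finset.coe_filter, Finset.mem_range, Set.mem_ofPred_eq] at hp
    have hn : tab.n = 2058 := rfl
    obtain ⟨h, hh, hhp⟩ := reach (k := k) (root_lt hk) _ ⟨p, by omega⟩ rfl hp.2
    refine ⟨((h * m₀ : Cfsg.Spor.He) : Cfsg.Spor.He ⧸ subH), ⟨⟨h, hh⟩, rfl⟩, ?_⟩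
    show (phi (((h * m₀ : Cfsg.Spor.He) : Cfsg.Spor.He ⧸ subH)).out z).val = p
    rw [(hker _ _).1 (hout _), map_mul, Equiv.Perm.mul_apply, hm₀, hhp]

end CfsgLib.He
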