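import Cfsg.Agent.Lib.He.Pres
import Cfsg.Agent.Lib.He.CheckSmall
import Cfsg.Agent.Lib.He.CheckM
import Cfsg.Agent.Lib.He.CheckHe0
import Cfsg.Agent.Lib.He.CheckHe1

/-!
The upper bound on the order of the presented Held group.
-/

set_option autoImplicit false
set_option maxRecDepth 100000

namespace CfsgLib.He

open CfsgLib.PresCert

/-- Words generating a subgroup of order 336. -/
def sAdefg : List (List ℕ) := [[0], [3], [4], [5], [6]]

/-- Words generating a subgroup of order 80640. -/
def sK : List (List ℕ) := [[0], [2], [3], [4], [5], [6]]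

/-- Words generating a subgroup of order 483840. -/
def sM : List (List ℕ) := sK ++ [[1, 0, 1],
  [1, 2, 3, 4, 5, 3, 2, 1, 3, 2, 3, 2, 1, 4, 3, 2, 3, 4, 5, 3, 2, 1]]

/-- The extra relation. -/
def cdeWord : List ℕ := [2, 3, 4, 2, 3, 4, 2, 3, 4, 2, 3, 4, 2, 3, 4]

/-- All relations used. -/
def allRels : List (List ℕ) := heRels ++ [cdeWord]

theorem act_mem {S : List (List ℕ)} {w : List ℕ} (h : w ∈ S) :
    act heGen w ∈ genGrp S heGen :=
  Subgroup.subset_closure ⟨w, h, rfl⟩

theorem certCde_words : relsOk certCde heRels = true ∧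
    subsOk certCde [] (16 * certCde.words.length) = true := by
  decide +kernel

theorem cde_one : act heGen cdeWord = 1 := by
  have H : Hyp certCde heGen (1 : Cfsg.Spor.He) :=
    hyp_of_checks (fun g hg => heGen_sq g hg) heRels_act (fun w hw => absurd hw List.not_mem_nil)
      certCde_words.1 certCde_words.2
  have h := word_fix certCde_valid H (w := cdeWord) (by decide +kernel) cde_walk
  simpa using h

theorem allRels_act : ∀ w ∈ allRels, act heGen w = 1 := by
  intro w hw
  rcases List.mem_append.1 hw with hw | hw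
  · exact heRels_act w hw
  · rw [List.mem_singleton.1 hw]; exact cde_one

theorem certAdefg_words : relsOk certAdefg heRels = true ∧
    subsOk certAdefg [] (16 * certAdefg.words.length) = true ∧ certAdefg.n = 336 := by
  decide +kernel

theorem adefg_le : Finite (genGrp sAdefg heGen) ∧ Nat.card (genGrp sAdefg heGen) ≤ 336 := by
  have H : Hyp certAdefg heGen ((1 : Cfsg.Spor.He) : Cfsg.Spor.He ⧸ (⊥ : Subgroup Cfsg.Spor.He)) :=
    hyp_of_checks (fun g hg => heGen_sq g hg) heRels_act (fun w hw => absurd hw List.not_mem_nil)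
      certAdefg_words.1 certAdefg_words.2.1
  obtain ⟨h1, h2⟩ := card_le (W := sAdefg) certAdefg_closed H
  rw [Subgroup.card_bot, mul_one, certAdefg_words.2.2] at h2
  exact ⟨h1, h2⟩

theorem certK_words : relsOk certK allRels = true ∧
    subsOk certK sAdefg (16 * certK.words.length) = true ∧ certK.n = 240 := by
  decide +kernel

theorem fix_coset {S : List (List ℕ)} {w : List ℕ} (h : w ∈ S) :
    act heGen w • ((1 : Cfsg.Spor.He) : Cfsg.Spor.He ⧸ genGrp S heGen) =
      ((1 : Cfsg.Spor.He) : Cfsg.Spor.He ⧸ genGrp S heGen) := by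
  rw [MulAction.Quotient.smul_coe, smul_eq_mul, mul_one, QuotientGroup.eq, mul_one]
  exact inv_mem (act_mem h)

theorem k_le : Finite (genGrp sK heGen) ∧ Nat.card (genGrp sK heGen) ≤ 80640 := by
  haveI := adefg_le.1
  have H : Hyp certK heGen ((1 : Cfsg.Spor.He) : Cfsg.Spor.He ⧸ genGrp sAdefg heGen) :=
    hyp_of_checks (fun g hg => heGen_sq g hg) allRels_act (fun w hw => fix_coset hw)
      certK_words.1 certK_words.2.1
  obtain ⟨h1, h2⟩ := card_le (W := sK) certK_closed H
  rw [certK_words.2.2] at h2
  exact ⟨h1, h2.trans ((Nat.mul_le_mul_left _ adefg_le.2).trans (le_of_eq (by norm_num)))⟩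

theorem certM_words : relsOk certM allRels = true ∧
    subsOk certM sK (16 * certM.words.length) = true ∧ certM.n = 6 ∧ certM.N = 3072 ∧
    shapeOk certM = true ∧ closedBlock certM sM 0 = true ∧
    sM.all (fun w => w.all fun g => Nat.blt g certM.ng) = true := by
  decide +kernel

theorem m_le : Finite (genGrp sM heGen) ∧ Nat.card (genGrp sM heGen) ≤ 483840 := by
  haveI := k_le.1
  obtain ⟨hr, hs, hn, hN, hsh, hcl, hw⟩ := certM_words
  have V : Closed certM sM :=
    { shape := hsh
      slots := fun b hb => by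
        rw [hN] at hb
        obtain rfl | rfl | rfl | rfl : b = 0 ∨ b = 1 ∨ b = 2 ∨ b = 3 := by omega
        exacts [certM_block0, certM_block1, certM_block2, certM_block3]
      words := hw
      closed := fun b hb => by
        rw [hn] at hb
        obtain rfl : b = 0 := by omega
        exact hcl }
  have H : Hyp certM heGen ((1 : Cfsg.Spor.He) : Cfsg.Spor.He ⧸ genGrp sK heGen) :=
    hyp_of_checks (fun g hg => heGen_sq g hg) allRels_act (fun w hw => fix_coset hw) hr hs
  obtain ⟨h1, h2⟩ := card_le (W := sM) V H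
  rw [hn] at h2
  exact ⟨h1, h2.trans ((Nat.mul_le_mul_left _ k_le.2).trans (le_of_eq (by norm_num)))⟩

theorem certHe_words : relsOk certHe allRels = true ∧
    subsOk certHe sM (16 * certHe.words.length) = true ∧ certHe.n = 8330 ∧ certHe.N = 8704 ∧
    shapeOk certHe = true ∧ certHe.ng = 7 ∧
    (letters certHe).all (fun w => w.all fun g => Nat.blt g certHe.ng) = true := by
  decide +kernel

/-- The presented group is finite of order at most that of the Held group. -/
theorem he_le : Finite Cfsg.Spor.He ∧ Nat.card Cfsg.Spor.He ≤ 4030387200 := by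
  haveI := m_le.1
  obtain ⟨hr, hs, hn, hN, hsh, hng, hw⟩ := certHe_words
  have V : Closed certHe (letters certHe) :=
    { shape := hsh
      slots := fun b hb => by
        rw [hN] at hb
        obtain rfl | rfl | rfl | rfl | rfl | rfl | rfl | rfl | rfl :
            b = 0 ∨ b = 1 ∨ b = 2 ∨ b = 3 ∨ b = 4 ∨ b = 5 ∨ b = 6 ∨ b = 7 ∨ b = 8 := by omega
        exacts [certHe_block0, certHe_block1, certHe_block2, certHe_block3, certHe_block4,
          certHe_block5, certHe_block6, certHe_block7, certHe_block8]
      words := hw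
      closed := fun b hb => by
        rw [hn] at hb
        obtain rfl | rfl | rfl | rfl | rfl | rfl | rfl | rfl | rfl :
            b = 0 ∨ b = 1 ∨ b = 2 ∨ b = 3 ∨ b = 4 ∨ b = 5 ∨ b = 6 ∨ b = 7 ∨ b = 8 := by omega
        exacts [certHe_closed0, certHe_closed1, certHe_closed2, certHe_closed3, certHe_closed4,
          certHe_closed5, certHe_closed6, certHe_closed7, certHe_closed8] }
  have H : Hyp certHe heGen ((1 : Cfsg.Spor.He) : Cfsg.Spor.He ⧸ genGrp sM heGen) :=
    hyp_of_checks (fun g hg => heGen_sq g (hng ▸ hg)) allRels_act (fun w hw => fix_coset hw) hr hs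
  obtain ⟨h1, h2⟩ := card_le (W := letters certHe) V H
  have htop : genGrp (letters certHe) heGen = ⊤ := by
    rw [letters, hng]; exact closure_gens
  rw [htop] at h1 h2
  rw [hn, Subgroup.card_top] at h2
  exact ⟨Finite.of_equiv _ Subgroup.topEquiv.toEquiv,
    h2.trans ((Nat.mul_le_mul_left _ m_le.2).trans (le_of_eq (by norm_num)))⟩

end CfsgLib.He
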