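import Cfsg.Agent.Lib.He.Perm
import Cfsg.Agent.Lib.Golay.SimpleCriterion

/-!
The simplicity of the presented Held group.
-/

set_option autoImplicit false
set_option maxRecDepth 100000

namespace CfsgLib.He

open CfsgLib.PresCert

/-- The element of order seventeen. -/
def xElt : Cfsg.Spor.He := act heGen xWord

theorem xElt_apply (i : Fin tab.n) : ((phi xElt i : Fin tab.n) : ℕ) = tab.walk i.val xWord :=
  realised.act_apply xWord_ix.2.1 i

theorem levels_ne : 0 < levels.length := by decide +kernel

theorem cycles_spec :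
    (∀ c ∈ cycles, c.length = 17 ∧ ∀ i < 17, tab.walk (c.getD i 0) xWord = c.getD ((i + 1) % 17) 0) ∧
    (∀ p ∈ (levels.getD 0 ⟨0, [], [], []⟩).pts, ∃ c ∈ cycles, p ∈ c) ∧
    (cycles.getD 0 []).take levels.length = levels.map Level.base ∧
    (∀ j, j + 1 < cycles.length →
      noElement tab levels ((cycles.getD (j + 1) []).take levels.length) = true) := by
  have h := tab_cycles
  simp only [cyclesOk, Bool.and_eq_true, List.all_eq_true, decide_eq_true_eq, List.mem_range,
    Nat.beq_eq, List.any_eq_true, List.contains_iff_mem] at h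
  exact ⟨h.1.1.1, h.1.1.2, h.1.2, fun j hj => h.2 j (by omega)⟩

/-- A power of the element along a cycle. -/
theorem xElt_cycle {c : List ℕ} (hc : c ∈ cycles) : ∀ (k i : ℕ), i < 17 → ∀ p : Fin tab.n,
    p.val = c.getD i 0 → ((phi (xElt ^ k) p : Fin tab.n) : ℕ) = c.getD ((i + k) % 17) 0
  | 0, i, hi, p, hp => by simpa [Nat.mod_eq_of_lt hi] using hp
  | k + 1, i, hi, p, hp => by
    rw [pow_succ', map_mul, Equiv.Perm.mul_apply, xElt_apply, xElt_cycle hc k i hi p hp,
      (cycles_spec.1 c hc).2 _ (Nat.mod_lt _ (by norm_num)), Nat.mod_add_mod, Nat.add_assoc]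

theorem base_lt : ∀ b ∈ levels.map Level.base, b < tab.n := by decide +kernel

theorem base_head : (levels.map Level.base).getD 0 0 = (levels.getD 0 ⟨0, [], [], []⟩).base ∧
    levels.length ≤ 17 ∧ cycles.length = 8 := by decide +kernel

theorem xElt_mem : xElt ∈ fixSub phi [0] := by
  intro i hi
  refine Fin.ext ?_
  rw [xElt_apply, List.mem_singleton.1 hi, xWord_ix.2.2]

theorem x_fix_only {i : Fin tab.n} (h : phi xElt i = i) : i.val = 0 := by
  by_contra h0
  have hb := three_blocks x_moves (b := i.val / 1000) (by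
    have := i.isLt
    have hn : tab.n = 2058 := rfl
    omega)
  simp only [moveBlock, List.all_eq_true, List.mem_range, Bool.or_eq_true, Bool.not_eq_true'] at hb
  have h' := hb (i.val % 1000) (Nat.mod_lt _ (by norm_num))
  rw [Nat.div_add_mod] at h'
  rcases h' with (h1 | h1) | h1
  · have : Nat.blt i.val tab.n = true := by rw [Nat.blt_eq]; exact i.isLt
    rw [this] at h1
    exact Bool.noConfusion h1
  · rw [Nat.beq_eq] at h1
    exact h0 h1
  · have e : tab.walk i.val xWord = i.val := by rw [← xElt_apply, h]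
    rw [e] at h1
    simp at h1

theorem xElt_pow : xElt ^ 17 = 1 := by
  have hmem : xElt ^ 17 ∈ fixSub phi ([0] ++ levels.map Level.base) := by
    intro i hi
    rcases List.mem_append.1 hi with hi | hi
    · exact Subgroup.pow_mem _ xElt_mem 17 i hi
    · rw [← cycles_spec.2.2.1] at hi
      have hi' := List.mem_of_mem_take hi
      have hc : cycles.getD 0 [] ∈ cycles := by
        rw [List.getD_eq_getElem _ _ (show 0 < cycles.length by rw [base_head.2.2]; norm_num)]
        exact List.getElem_mem _
      obtain ⟨k, hk, e⟩ := List.getElem_of_mem hi'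
      have hk17 : k < 17 := (cycles_spec.1 _ hc).1 ▸ hk
      refine Fin.ext ?_
      rw [xElt_cycle hc 17 k hk17 i (by rw [List.getD_eq_getElem _ _ hk, e]),
        Nat.add_mod_right, Nat.mod_eq_of_lt hk17, List.getD_eq_getElem _ _ hk, e]
  rw [base_trivial, Subgroup.mem_bot] at hmem
  exact hmem

theorem xElt_ne : xElt ≠ 1 := fun h => by
  have h1 := xElt_apply (⟨(levels.map Level.base).getD 0 0, by decide +kernel⟩ : Fin tab.n)
  rw [h, map_one, Equiv.Perm.one_apply] at h1
  revert h1
  decide +kernel

theorem orderOf_xElt : orderOf xElt = 17 :=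
  haveI : Fact (Nat.Prime 17) := ⟨by norm_num⟩
  orderOf_eq_prime xElt_pow xElt_ne

/-- The element of order seventeen is self-centralising. -/
theorem xElt_cent (g : Cfsg.Spor.He) (hg : g * xElt = xElt * g) :
    g ∈ Subgroup.zpowers xElt := by
  haveI := card_he.1
  have hg0 : g ∈ fixSub phi [0] := by
    intro i hi
    have hi0 : i.val = 0 := List.mem_singleton.1 hi
    refine Fin.ext (x_fix_only (i := phi g i) ?_ |>.trans hi0.symm)
    rw [← Equiv.Perm.mul_apply, ← map_mul, ← hg, map_mul, Equiv.Perm.mul_apply, xElt_mem i hi]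
  obtain ⟨l, ls, hls⟩ : ∃ l ls, levels = l :: ls := by
    cases h : levels with
    | nil => have := levels_ne; rw [h] at this; simp at this
    | cons a b => exact ⟨a, b, rfl⟩
  have hl0 : levels.getD 0 ⟨0, [], [], []⟩ = l := by rw [hls]; rfl
  have hlb : l.base < tab.n := base_lt _ (by rw [hls]; simp)
  obtain ⟨hmem, -⟩ := orbit_exact realised tab_levels stab_le.2 g hg0 l ls hls ⟨l.base, hlb⟩ rfl
  obtain ⟨c, hc, hpc⟩ := cycles_spec.2.1 _ (by rw [hl0]; exact hmem)
  obtain ⟨k, hk, hck⟩ := List.getElem_of_mem hpc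
  have hk17 : k < 17 := (cycles_spec.1 c hc).1 ▸ hk
  -- move the image to the start of its cycle
  set m := xElt ^ (17 - k) * g with hm
  have hcomm : ∀ a : ℕ, m * xElt ^ a = xElt ^ a * m := fun a => by
    rw [hm, mul_assoc, (Commute.pow_right hg a).eq, ← mul_assoc, ← pow_add, Nat.add_comm, pow_add,
      mul_assoc]
  have hm0 : m ∈ fixSub phi [0] := Subgroup.mul_mem _ (Subgroup.pow_mem _ xElt_mem _) hg0
  have hc0 : cycles.getD 0 [] ∈ cycles := by
    rw [List.getD_eq_getElem _ _ (show 0 < cycles.length by rw [base_head.2.2]; norm_num)]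
    exact List.getElem_mem _
  have hlen : levels.length ≤ 17 := base_head.2.1
  have hb0 : (cycles.getD 0 []).getD 0 0 = l.base := by
    have e := congrArg (fun L : List ℕ => L.getD 0 0) cycles_spec.2.2.1
    simp only [hls, List.map_cons, List.getD_cons_zero, List.length_cons] at e
    rw [← e]
    cases cycles.getD 0 [] <;> simp
  -- the image of the base
  have himg : ∀ a < 17, ∀ i : Fin tab.n, i.val = (cycles.getD 0 []).getD a 0 →
      ((phi m i : Fin tab.n) : ℕ) = c.getD a 0 := by
    intro a ha i hi
    have hi' : i = phi (xElt ^ a) ⟨l.base, hlb⟩ := by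
      refine Fin.ext ?_
      rw [hi, xElt_cycle hc0 a 0 (by norm_num) ⟨l.base, hlb⟩ hb0.symm, Nat.zero_add,
        Nat.mod_eq_of_lt ha]
    rw [hi', ← Equiv.Perm.mul_apply, ← map_mul, hcomm a, hm, ← mul_assoc, ← pow_add, map_mul,
      Equiv.Perm.mul_apply,
      xElt_cycle hc _ k hk17 _ (by rw [List.getD_eq_getElem _ _ hk, hck]),
      show k + (a + (17 - k)) = a + 17 by omega, Nat.add_mod_right, Nat.mod_eq_of_lt ha]
  obtain ⟨j, hj, hcj⟩ := List.getElem_of_mem hc
  rcases j with _ | j
  · have hm1 : m ∈ fixSub phi ([0] ++ levels.map Level.base) := by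
      intro i hi
      rcases List.mem_append.1 hi with hi | hi
      · exact hm0 i hi
      · rw [← cycles_spec.2.2.1] at hi
        obtain ⟨a, ha, e⟩ := List.getElem_of_mem (List.mem_of_mem_take hi)
        have ha17 : a < 17 := (cycles_spec.1 _ hc0).1 ▸ ha
        refine Fin.ext ?_
        rw [himg a ha17 i (by rw [List.getD_eq_getElem _ _ ha, e]), ← hcj,
          ← List.getD_eq_getElem _ [] hj, List.getD_eq_getElem _ _ ha, e]
    rw [base_trivial, Subgroup.mem_bot, hm] at hm1
    rw [eq_inv_of_mul_eq_one_right hm1]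
    exact Subgroup.inv_mem _ (Subgroup.npow_mem_zpowers _ _)
  · exfalso
    have hno := cycles_spec.2.2.2 j hj
    rw [List.getD_eq_getElem _ _ hj, hcj] at hno
    refine noElement_sound realised (fun a ha => heGen_sq a ha) tab_levels stab_le.2 hno m hm0 ?_
    have hclen := (cycles_spec.1 c hc).1
    have htl : (c.take levels.length).length = levels.length := by
      rw [List.length_take, hclen]; omega
    rw [List.forall₂_iff_get]
    refine ⟨by rw [List.length_take, List.length_map, htl, Nat.min_self], fun a h1 h2 i hi => ?_⟩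
    have ha : a < levels.length := htl ▸ h2
    simp only [List.get_eq_getElem, List.getElem_take] at hi ⊢
    rw [← List.getD_eq_getElem c 0 (by omega)]
    refine himg a (by omega) i ?_
    rw [hi]
    have e := congrArg (fun L : List ℕ => L.getD a 0) cycles_spec.2.2.1
    rw [List.getD_eq_getElem (l := levels.map Level.base) 0 (by simpa using ha)] at e
    rw [← e]
    simp [List.getD_eq_getElem?_getD, List.getElem?_take_of_lt ha]

/-- Every point but the first is moved by the stabiliser. -/
theorem sub_moves : threeBlocks (fun b => (List.range 1000).all fun j =>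
    !(Nat.blt (1000 * b + j) tab.n) || Nat.beq (1000 * b + j) 0 ||
      subWords.any fun w => !(Nat.beq (tab.walk (1000 * b + j) w) (1000 * b + j))) = true := by
  decide +kernel

theorem modEq_table : ∀ a : Fin 11, ∀ b : Fin 4, ∀ c : Fin 3, ∀ d : Fin 4,
    2 ^ a.val % 17 = 1 → 3 ^ b.val % 17 = 1 → 5 ^ c.val % 17 = 1 → 7 ^ d.val % 17 = 1 →
      b.val = 0 ∧ c.val = 0 ∧ d.val = 0 := by
  decide +kernel

/-- The presented Held group is simple. -/
theorem simple : IsSimpleGroup Cfsg.Spor.He := by
  haveI := card_he.1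
  haveI : Fact (Nat.Prime 17) := ⟨by norm_num⟩
  refine Golay.SimpleCrit.isSimple orderOf_xElt xElt_cent ?_ perfect fun N hN hp => ?_
  · rw [card_he.2]; norm_num
  haveI := hN
  have hdvd : Nat.card N ∣ 4030387200 := card_he.2 ▸ Subgroup.card_subgroup_dvd_card N
  have key : ∀ q : ℕ, q.Prime → q ^ (Nat.card N).factorization q % 17 = 1 := fun q hq =>
    haveI := Fact.mk hq
    Golay.SimpleCrit.part_modEq orderOf_xElt xElt_cent hp
  -- the order is a power of two
  have hpow : Nat.card N ∣ 2 ^ 10 := by
    have h2 : Nat.card N ∣ 2 ^ 10 * 3 ^ 3 * 5 ^ 2 * 7 ^ 3 := by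
      have hco : Nat.Coprime (Nat.card N) 17 :=
        ((Nat.Prime.coprime_iff_not_dvd (by norm_num)).2 hp).symm
      exact hco.dvd_of_dvd_mul_right (hdvd.trans (by norm_num))
    obtain ⟨n1, n2, h1, h7, e⟩ := exists_dvd_and_dvd_of_dvd_mul h2
    obtain ⟨n3, n4, h3, h5, e'⟩ := exists_dvd_and_dvd_of_dvd_mul h1
    obtain ⟨n5, n6, h5', h6, e''⟩ := exists_dvd_and_dvd_of_dvd_mul h3
    obtain ⟨a, ha, rfl⟩ := (Nat.dvd_prime_pow Nat.prime_two).1 h5'
    obtain ⟨b, hb, rfl⟩ := (Nat.dvd_prime_pow Nat.prime_three).1 h6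
    obtain ⟨c, hc, rfl⟩ := (Nat.dvd_prime_pow (by norm_num : Nat.Prime 5)).1 h5
    obtain ⟨d, hd, rfl⟩ := (Nat.dvd_prime_pow (by norm_num : Nat.Prime 7)).1 h7
    have hN' : Nat.card N = 2 ^ a * 3 ^ b * 5 ^ c * 7 ^ d := by rw [e, e', e'']
    have hf : ∀ q : ℕ, (Nat.card N).factorization q =
        a * Nat.factorization 2 q + b * Nat.factorization 3 q + c * Nat.factorization 5 q +
          d * Nat.factorization 7 q := fun q => by
      rw [hN', Nat.factorization_mul (by positivity) (by positivity),
        Nat.factorization_mul (by positivity) (by positivity),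
        Nat.factorization_mul (by positivity) (by positivity)]
      simp [Nat.factorization_pow]
    have k2 := key 2 Nat.prime_two
    have k3 := key 3 Nat.prime_three
    have k5 := key 5 (by norm_num)
    have k7 := key 7 (by norm_num)
    rw [hf] at k2 k3 k5 k7
    simp only [Nat.Prime.factorization Nat.prime_two, Nat.Prime.factorization Nat.prime_three,
      Nat.Prime.factorization (show Nat.Prime 5 by norm_num),
      Nat.Prime.factorization (show Nat.Prime 7 by norm_num), Finsupp.single_apply] at k2 k3 k5 k7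
    norm_num at k2 k3 k5 k7
    obtain ⟨rfl, rfl, rfl⟩ := modEq_table ⟨a, by omega⟩ ⟨b, by omega⟩ ⟨c, by omega⟩ ⟨d, by omega⟩
      k2 k3 k5 k7
    rw [hN', pow_zero, pow_zero, pow_zero, mul_one, mul_one, mul_one]
    exact Nat.pow_dvd_pow 2 ha
  -- the orbit of the first point
  letI : MulAction N (Fin tab.n) := MulAction.compHom _ (phi.comp N.subtype)
  have h0 : 0 < tab.n := by decide +kernel
  set z : Fin tab.n := ⟨0, h0⟩ with hz
  have hfix : ∀ v : N, phi v.val z = z := by
    intro v
    by_contra hv
    have hd : Nat.card (MulAction.orbit N z) ∣ 2 ^ 10 := by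
      refine dvd_trans ?_ hpow
      have := Nat.card_congr (MulAction.orbitProdStabilizerEquivGroup N z)
      rw [Nat.card_prod] at this
      exact ⟨_, this.symm⟩
    -- all orbits have the same size, so the size divides the degree
    have hsame : ∀ i : Fin tab.n,
        Nat.card (MulAction.orbit N i) = Nat.card (MulAction.orbit N z) := by
      intro i
      obtain ⟨m, hm⟩ := stab_le.1 z i
      refine Nat.card_congr ((Equiv.subtypeEquiv (phi m) fun a => ?_).symm)
      constructor
      · rintro ⟨v, rfl⟩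
        refine ⟨⟨m * v.val * m⁻¹, hN.conj_mem _ v.2 m⟩, ?_⟩
        show phi (m * v.val * m⁻¹) i = phi m (phi v.val z)
        rw [map_mul, map_mul, Equiv.Perm.mul_apply, Equiv.Perm.mul_apply, map_inv,
          Equiv.Perm.inv_def, (Equiv.symm_apply_eq _).2 hm.symm]
      · rintro ⟨v, hv⟩
        refine ⟨⟨m⁻¹ * v.val * m⁻¹⁻¹, hN.conj_mem _ v.2 m⁻¹⟩, ?_⟩
        have hv' : phi v.val i = phi m a := hv
        show phi (m⁻¹ * v.val * m⁻¹⁻¹) z = a
        rw [inv_inv, map_mul, map_mul, Equiv.Perm.mul_apply, Equiv.Perm.mul_apply, hm, hv', map_inv,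
          Equiv.Perm.inv_def, Equiv.symm_apply_apply]
    have hdn : Nat.card (MulAction.orbit N z) ∣ 2058 := by
      have h := Nat.card_congr (MulAction.selfEquivSigmaOrbits' N (Fin tab.n))
      classical
      rw [Nat.card_fin, Nat.card_sigma, Finset.sum_congr rfl
        (g := fun _ => Nat.card (MulAction.orbit N z)) fun q _ => ?_, Finset.sum_const,
        smul_eq_mul] at h
      · exact ⟨_, (show (2058 : ℕ) = tab.n from rfl).trans (h.trans (mul_comm _ _))⟩
      · obtain ⟨i, rfl⟩ := Quotient.exists_rep q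
        rw [← hsame i]
        rfl
    have hle2 : Nat.card (MulAction.orbit N z) ∣ 2 := by
      have := Nat.dvd_gcd hd hdn
      rwa [show Nat.gcd (2 ^ 10) 2058 = 2 from rfl] at this
    have hle : Nat.card (MulAction.orbit N z) ≤ 2 := Nat.le_of_dvd two_pos hle2
    -- the stabiliser fixes the other point of the orbit
    have hq0 : (phi v.val z).val ≠ 0 := fun h => hv (Fin.ext h)
    have hb := three_blocks sub_moves (b := (phi v.val z).val / 1000) (by
      have := (phi v.val z).isLt
      have hn : tab.n = 2058 := rfl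
      omega)
    simp only [List.all_eq_true, List.mem_range, Bool.or_eq_true, Bool.not_eq_true',
      List.any_eq_true] at hb
    have h' := hb ((phi v.val z).val % 1000) (Nat.mod_lt _ (by norm_num))
    rw [Nat.div_add_mod] at h'
    rcases h' with (h1 | h1) | ⟨w, hw, h1⟩
    · have : Nat.blt (phi v.val z).val tab.n = true := by rw [Nat.blt_eq]; exact Fin.isLt _
      rw [this] at h1
      exact Bool.noConfusion h1
    · rw [Nat.beq_eq] at h1
      exact hq0 h1
    · have hsw := tab_subWords
      simp only [List.all_eq_true, Bool.and_eq_true, Nat.blt_eq, Nat.beq_eq] at hsw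
      set u := act heGen w with hu
      have huz : phi u z = z := by
        refine Fin.ext ?_
        rw [hu, realised.act_apply (hsw w hw).1]
        exact (hsw w hw).2
      have hne : phi u (phi v.val z) ≠ phi v.val z := by
        intro e
        have e' := congrArg Fin.val e
        rw [hu, realised.act_apply (hsw w hw).1] at e'
        rw [e'] at h1
        simp at h1
      have hne0 : phi u (phi v.val z) ≠ z := fun e => hv ((phi u).injective (e.trans huz.symm))
      have hmem : phi u (phi v.val z) ∈ MulAction.orbit N z := by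
        refine ⟨⟨u * v.val * u⁻¹, hN.conj_mem _ v.2 u⟩, ?_⟩
        show phi (u * v.val * u⁻¹) z = _
        rw [map_mul, map_mul, Equiv.Perm.mul_apply, Equiv.Perm.mul_apply, map_inv,
          Equiv.Perm.inv_def, (Equiv.symm_apply_eq _).2 huz.symm]
      have h3 : 3 ≤ Nat.card (MulAction.orbit N z) := by
        rw [Nat.card_coe_set_eq]
        refine le_trans (le_of_eq (Set.ncard_eq_three.2 ⟨z, phi v.val z, phi u (phi v.val z),
          Ne.symm hv, Ne.symm hne0, Ne.symm hne, rfl⟩).symm) (Set.ncard_le_ncard ?_ (Set.toFinite _))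
        rintro x (rfl | rfl | rfl)
        exacts [MulAction.mem_orbit_self _, ⟨v, rfl⟩, hmem]
      omega
  -- a normal subgroup fixing one point fixes all
  rw [eq_bot_iff]
  intro v hv
  refine Subgroup.mem_bot.2 (phi_injective ?_)
  rw [map_one]
  refine Equiv.ext fun i => ?_
  obtain ⟨m, hm⟩ := stab_le.1 z i
  have h := hfix ⟨m⁻¹ * v * m⁻¹⁻¹, hN.conj_mem _ hv m⁻¹⟩
  simp only [inv_inv, map_mul, Equiv.Perm.mul_apply, hm, map_inv, Equiv.Perm.inv_def,
    Equiv.symm_apply_eq] at h
  rw [h, Equiv.Perm.one_apply]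

end CfsgLib.He
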