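import Cfsg.Agent.Lib.He.OutCheck
import Cfsg.Agent.Lib.He.Simple
import Cfsg.Agent.Lib.MathieuOut.Abstract

/-!
# The outer automorphisms of the presented Held group

An element of order seventeen, an element of order eight normalising it and a third element generate
the group. An automorphism can be normalised on the first two, so few images are left for the third
one, and all but two of these break a relation.
-/

set_option autoImplicit false
set_option maxRecDepth 100000

namespace CfsgLib.He.Out

open CfsgLib.PresCert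

theorem v_order : eqOn (rep 8 vWord) [] = true := by decide +kernel

/-- A word in the seven generators. -/
def Ok (w : List ℕ) : Prop := ∀ g ∈ w, g < tab.ng

theorem ng_eq : tab.ng = 7 := rfl

theorem words_spec : ∀ w ∈ [xWord, vWord, v3Word, wWord] ++ centWords ++ imgWords, Ok w := by
  have h := words_ok
  simp only [wordsOk, List.all_eq_true, Nat.blt_eq] at h
  exact fun w hw g hg => by rw [ng_eq]; exact h w hw g hg

theorem ok_nil : Ok [] := fun _ h => absurd h List.not_mem_nil

theorem ok_append {p q : List ℕ} (hp : Ok p) (hq : Ok q) : Ok (p ++ q) := fun g hg => by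
  rcases List.mem_append.1 hg with h | h
  exacts [hp g h, hq g h]

theorem ok_x : Ok xWord := words_spec _ (by simp)
theorem ok_v : Ok vWord := words_spec _ (by simp)
theorem ok_v3 : Ok v3Word := words_spec _ (by simp)
theorem ok_w : Ok wWord := words_spec _ (by simp)

theorem ok_cent (i : ℕ) : Ok (centWords.getD i []) := by
  rcases Nat.lt_or_ge i centWords.length with h | h
  · rw [List.getD_eq_getElem _ _ h]; exact words_spec _ (by simp [List.getElem_mem h])
  · rw [List.getD_eq_default _ _ h]; exact ok_nil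

theorem ok_img (i : ℕ) : Ok (imgWords.getD i []) := by
  rcases Nat.lt_or_ge i imgWords.length with h | h
  · rw [List.getD_eq_getElem _ _ h]; exact words_spec _ (by simp [List.getElem_mem h])
  · rw [List.getD_eq_default _ _ h]; exact ok_nil

theorem ok_expand {T : List (List ℕ)} (hT : ∀ a, Ok (T.getD a [])) (p : List ℕ) :
    Ok (expand T p) := fun g hg => by
  obtain ⟨a, -, h⟩ := List.mem_flatMap.1 hg
  exact hT a g h

theorem ok_rep {p : List ℕ} (hp : Ok p) : ∀ n, Ok (rep n p)
  | 0 => ok_nil
  | n + 1 => ok_append hp (ok_rep hp n)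

theorem ok_triple (k : ℕ) {z : List ℕ} (hz : Ok z) : ∀ a, Ok ((triple k z).getD a []) := by
  intro a
  rcases a with _ | _ | _ | a
  · show Ok (if k = 1 then xWord else xWord ++ xWord ++ xWord)
    split_ifs
    exacts [ok_x, ok_append (ok_append ok_x ok_x) ok_x]
  · exact ok_v
  · exact hz
  · exact ok_nil

section act

variable {M : Type*} [Group M]

theorem act_expand (gen : ℕ → M) (T : List (List ℕ)) : ∀ p : List ℕ,
    act gen (expand T p) = act (fun a => act gen (T.getD a [])) p
  | [] => rfl
  | a :: p => by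
    rw [expand, List.flatMap_cons, act_append, act_cons]
    exact congrArg (· * _) (act_expand gen T p)

theorem act_rep (gen : ℕ → M) (p : List ℕ) : ∀ n : ℕ, act gen (rep n p) = act gen p ^ n
  | 0 => by simp [rep, act_nil]
  | n + 1 => by rw [rep, act_append, act_rep gen p n, pow_succ]

theorem act_map {N : Type*} [Group N] (f : M →* N) (gen : ℕ → M) : ∀ p : List ℕ,
    f (act gen p) = act (fun a => f (gen a)) p
  | [] => map_one f
  | a :: p => by rw [act_cons, act_cons, map_mul, act_map f gen p]

theorem act_congr {gen gen' : ℕ → M} : ∀ {p : List ℕ}, (∀ a ∈ p, gen a = gen' a) →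
    act gen p = act gen' p
  | [], _ => rfl
  | a :: p, h => by
    rw [act_cons, act_cons, act_congr fun b hb => h b (List.mem_cons_of_mem _ hb),
      h a List.mem_cons_self]

theorem act_mem {S : Subgroup M} {gen : ℕ → M} (h : ∀ a, gen a ∈ S) : ∀ p : List ℕ, act gen p ∈ S
  | [] => S.one_mem
  | a :: p => by rw [act_cons]; exact S.mul_mem (act_mem h p) (h a)

end act

theorem card_levelsV :
    Nat.card (fixSub phi [0]) ≤ (levelsV.map fun l => l.pts.length).prod := by
  have h := stab_le.2
  rwa [levels_card, ← levelsV_card] at h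

theorem baseV_trivial : fixSub phi ([0] ++ levelsV.map Level.base) = ⊥ := by
  haveI := card_he.1
  exact (base_tight realised levelsV_ok card_levelsV).2

theorem eq_of_eqOn {p q : List ℕ} (hp : Ok p) (hq : Ok q) (h : eqOn p q = true) :
    act heGen p = act heGen q := by
  simp only [eqOn, List.all_eq_true, Nat.beq_eq] at h
  have hmem : (act heGen q)⁻¹ * act heGen p ∈ fixSub phi ([0] ++ levelsV.map Level.base) := by
    intro i hi
    rw [map_mul, Equiv.Perm.mul_apply, map_inv, Equiv.Perm.inv_def, Equiv.symm_apply_eq]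
    exact Fin.ext (by rw [realised.act_apply hp, realised.act_apply hq, h i.val hi])
  rw [baseV_trivial, Subgroup.mem_bot, inv_mul_eq_one] at hmem
  exact hmem.symm

theorem eqOn_of_eq {p q : List ℕ} (hp : Ok p) (hq : Ok q) (hb : ∀ i ∈ basePts, i < tab.n)
    (h : act heGen p = act heGen q) : eqOn p q = true := by
  simp only [eqOn, List.all_eq_true, Nat.beq_eq]
  intro i hi
  rw [← realised.act_apply hp ⟨i, hb i hi⟩, h, realised.act_apply hq]

theorem basePts_lt : ∀ i ∈ basePts, i < tab.n := by decide +kernel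

/-- The element of order eight. -/
def vElt : Cfsg.Spor.He := act heGen vWord

/-- The third element. -/
def wElt : Cfsg.Spor.He := act heGen wWord

/-- The elements commuting with the element of order eight. -/
def centElt (i : ℕ) : Cfsg.Spor.He := act heGen (centWords.getD i [])

theorem v3_eq : act heGen v3Word = vElt ^ 3 := by
  rw [eq_of_eqOn ok_v3 (ok_rep ok_v 3) v3_rel, act_rep]; rfl

theorem v_pow : vElt ^ 8 = 1 := by
  rw [vElt, ← act_rep, eq_of_eqOn (ok_rep ok_v 8) ok_nil v_order, act_nil]

theorem vu : vElt * xElt = xElt ^ 2 * vElt := by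
  have h := eq_of_eqOn (ok_append ok_x ok_v) (ok_append ok_v (ok_append ok_x ok_x)) vu_rel
  rw [act_append, act_append, act_append, ← pow_two] at h
  exact h

theorem wv : wElt * vElt = vElt ^ 3 * wElt := by
  have h := eq_of_eqOn (ok_append ok_v ok_w) (ok_append ok_w ok_v3) wv_rel
  rw [act_append, act_append, v3_eq] at h
  exact h

theorem cent_spec {i : ℕ} (hi : i < 16) :
    centElt i * vElt = vElt * centElt i ∧ centElt i ∈ fixSub phi [0] := by
  have h := cent_ok
  simp only [centOk, Bool.and_eq_true, decide_eq_true_eq, List.all_eq_true, Nat.beq_eq] at h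
  have hl : i < centWords.length := by rw [h.1.1]; exact hi
  obtain ⟨h1, h2⟩ := h.1.2 _ (List.getElem_mem hl)
  rw [← List.getD_eq_getElem _ [] hl] at h1 h2
  refine ⟨?_, fun j hj => Fin.ext ?_⟩
  · have e := eq_of_eqOn (ok_append ok_v (ok_cent i)) (ok_append (ok_cent i) ok_v) h1
    rwa [act_append, act_append] at e
  · rw [centElt, realised.act_apply (ok_cent i), List.mem_singleton.1 hj, h2]

/-- The first base point. -/
def bFst : Fin tab.n := ⟨basePts.getD 1 0, by decide +kernel⟩

theorem chain_forall {z : List ℕ} (hz : Ok z) {m : Cfsg.Spor.He}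
    (hm : m * vElt = act heGen z * m) : ∀ (n : ℕ) (b : Fin tab.n),
    List.Forall₂ (fun l q => ∀ i : Fin tab.n, i.val = l → ((phi m i : Fin tab.n) : ℕ) = q)
      (chain vWord n b.val) (chain z n (phi m b).val)
  | 0, _ => List.Forall₂.nil
  | n + 1, b => by
    refine List.Forall₂.cons (fun i hi => by rw [Fin.ext hi]) ?_
    rw [walk_reverse realised heGen_sq ok_v, walk_reverse realised heGen_sq hz,
      ← Equiv.Perm.mul_apply, ← map_mul]
    have e : (act heGen z)⁻¹ * m = m * vElt⁻¹ := by
      rw [inv_mul_eq_iff_eq_mul, ← mul_assoc, ← hm, mul_inv_cancel_right]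
    rw [e, map_mul, Equiv.Perm.mul_apply]
    exact chain_forall hz hm n _

theorem chain_length (z : List ℕ) : ∀ (n y : ℕ), (chain z n y).length = n
  | 0, _ => rfl
  | n + 1, y => by rw [chain, List.length_cons, chain_length z n]

theorem bases_chain :
    chain vWord levelsV.length bFst.val = levelsV.map Level.base := by
  have h := base_chain
  simp only [baseChain, Bool.and_eq_true, decide_eq_true_eq] at h
  exact h.2

/-- The image of the first base point is a survivor. -/
theorem survivor_mem {z : List ℕ} (hz : Ok z) {m : Cfsg.Spor.He} (h0 : m ∈ fixSub phi [0])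
    (hm : m * vElt = act heGen z * m) : (phi m bFst).val ∈ survivors z := by
  haveI := card_he.1
  have hbases := bases_chain
  obtain ⟨l, ls, hls⟩ : ∃ l ls, levelsV = l :: ls := ⟨_, _, rfl⟩
  have hb : bFst.val = l.base := by
    rw [hls, List.length_cons, chain, List.map_cons, List.cons.injEq] at hbases
    exact hbases.1
  obtain ⟨hmem, -⟩ := orbit_exact realised levelsV_ok card_levelsV m h0 l ls hls bFst hb
  refine List.mem_filter.2 ⟨by rw [hls]; exact hmem, ?_⟩
  rw [Bool.not_eq_true', Bool.eq_false_iff]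
  intro hno
  refine noElement_sound realised heGen_sq levelsV_ok card_levelsV hno m h0 ?_
  rw [chain_length, List.take_of_length_le (by rw [List.length_map]), ← bases_chain]
  exact chain_forall hz hm _ _

/-- Such an element is given by the image of the first base point. -/
theorem eq_of_image {z : List ℕ} (hz : Ok z) {m m' : Cfsg.Spor.He} (h0 : m ∈ fixSub phi [0])
    (h0' : m' ∈ fixSub phi [0]) (hm : m * vElt = act heGen z * m)
    (hm' : m' * vElt = act heGen z * m') (h : phi m bFst = phi m' bFst) : m = m' := by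
  have key : ∀ {b : List ℕ} {q : List ℕ},
      List.Forall₂ (fun l q => ∀ i : Fin tab.n, i.val = l → ((phi m i : Fin tab.n) : ℕ) = q) b q →
      List.Forall₂ (fun l q => ∀ i : Fin tab.n, i.val = l → ((phi m' i : Fin tab.n) : ℕ) = q) b q →
      ∀ i : Fin tab.n, i.val ∈ b → phi m i = phi m' i := by
    intro b q h1
    induction h1 with
    | nil => intro _ i hi; exact absurd hi List.not_mem_nil
    | cons ha _ ih =>
      intro h2 i hi
      obtain ⟨hb, ht⟩ := List.forall₂_cons.1 h2
      rcases List.mem_cons.1 hi with hi | hi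
      · exact Fin.ext ((ha i hi).trans (hb i hi).symm)
      · exact ih ht i hi
  have h1 := chain_forall hz hm levelsV.length bFst
  have h2 := chain_forall hz hm' levelsV.length bFst
  rw [← h, bases_chain] at h2
  rw [bases_chain] at h1
  have hmem : m⁻¹ * m' ∈ fixSub phi ([0] ++ levelsV.map Level.base) := by
    intro i hi
    rw [map_mul, Equiv.Perm.mul_apply, map_inv, Equiv.Perm.inv_def, Equiv.symm_apply_eq]
    rcases List.mem_append.1 hi with hi | hi
    · rw [h0 i hi, h0' i hi]
    · exact (key h1 h2 i hi).symm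
  rw [baseV_trivial, Subgroup.mem_bot, inv_mul_eq_one] at hmem
  exact hmem

/-- The elements fixing the first point that commute with the element of order eight. -/
theorem cent_complete {m : Cfsg.Spor.He} (h0 : m ∈ fixSub phi [0])
    (hm : m * vElt = vElt * m) : ∃ i < 16, m = centElt i := by
  have h := cent_ok
  simp only [centOk, Bool.and_eq_true, decide_eq_true_eq] at h
  have hnd := (nodupB_spec h.2).1
  have hsub : centWords.map (fun c => tab.walk (basePts.getD 1 0) c) ⊆ survivors vWord := by
    intro y hy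
    obtain ⟨c, hc, rfl⟩ := List.mem_map.1 hy
    obtain ⟨i, hi, rfl⟩ := List.getElem_of_mem hc
    obtain ⟨e1, e2⟩ := cent_spec (i := i) (h.1.1 ▸ hi)
    have e3 := survivor_mem ok_v e2 e1
    rwa [centElt, List.getD_eq_getElem _ _ hi, realised.act_apply
      (List.getD_eq_getElem centWords [] hi ▸ ok_cent i)] at e3
  have hperm : (centWords.map fun c => tab.walk (basePts.getD 1 0) c).Perm (survivors vWord) :=
    (hnd.subperm hsub).perm_of_length_le (by rw [List.length_map, h.1.1]; exact cent_count)
  have hy := hperm.mem_iff.2 (survivor_mem ok_v h0 hm)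
  obtain ⟨c, hc, hy⟩ := List.mem_map.1 hy
  obtain ⟨i, hi, rfl⟩ := List.getElem_of_mem hc
  obtain ⟨e1, e2⟩ := cent_spec (i := i) (h.1.1 ▸ hi)
  refine ⟨i, h.1.1 ▸ hi, eq_of_image ok_v h0 e2 hm e1 (Fin.ext ?_)⟩
  rw [centElt, realised.act_apply (ok_cent i), List.getD_eq_getElem _ _ hi, ← hy]
  rfl

theorem no_conj {m : Cfsg.Spor.He} (h0 : m ∈ fixSub phi [0])
    (hm : m * vElt = vElt ^ 3 * m) : False := by
  have h := survivor_mem ok_v3 h0 (by rw [hm, v3_eq])
  rw [List.eq_nil_of_length_eq_zero conj_count] at h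
  exact List.not_mem_nil h

theorem v_fix_only {i : Fin tab.n} (h : phi vElt i = i) : i.val = 0 ∨ i.val = 960 := by
  have hb := three_blocks v_fix (b := i.val / 1000) (by
    have := i.isLt
    have hn : tab.n = 2058 := rfl
    omega)
  simp only [List.all_eq_true, List.mem_range, Bool.or_eq_true, Bool.not_eq_true'] at hb
  have h' := hb (i.val % 1000) (Nat.mod_lt _ (by norm_num))
  rw [Nat.div_add_mod] at h'
  rcases h' with ((h1 | h1) | h1) | h1
  · have : Nat.blt i.val tab.n = true := by rw [Nat.blt_eq]; exact i.isLt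
    rw [this] at h1
    exact Bool.noConfusion h1
  · exact Or.inl (Nat.eq_of_beq_eq_true h1)
  · exact Or.inr (Nat.eq_of_beq_eq_true h1)
  · have e : tab.walk i.val vWord = i.val := by rw [← realised.act_apply ok_v i]; exact congrArg Fin.val h
    rw [e] at h1
    simp at h1

/-- The first point. -/
def pZero : Fin tab.n := ⟨0, by decide +kernel⟩

theorem mem_fix0 {m : Cfsg.Spor.He} (h : phi m pZero = pZero) : m ∈ fixSub phi [0] := by
  intro i hi
  rwa [show i = pZero from Fin.ext (List.mem_singleton.1 hi)]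

theorem v_pZero : phi vElt pZero = pZero :=
  Fin.ext ((realised.act_apply ok_v pZero).trans v_zero.1)

theorem w_pZero : ((phi wElt pZero : Fin tab.n) : ℕ) = 960 :=
  (realised.act_apply ok_w pZero).trans v_zero.2.2

theorem fix_pow {y : Cfsg.Spor.He} {i : Fin tab.n} (h : phi y i = i) :
    ∀ n : ℕ, phi (y ^ n) i = i
  | 0 => by rw [pow_zero, map_one]; rfl
  | n + 1 => by rw [pow_succ, map_mul, Equiv.Perm.mul_apply, h, fix_pow h n]

/-- The possible images of the third element. -/
def wList : List Cfsg.Spor.He :=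
  (List.range 16).map fun i => act heGen (centWords.getD i [] ++ wWord)

theorem w_list {x : Cfsg.Spor.He} (hx : x * vElt = vElt ^ 3 * x) : x ∈ wList := by
  have hv3 : phi (vElt ^ 3) (phi x pZero) = phi x pZero := by
    rw [← Equiv.Perm.mul_apply, ← map_mul, ← hx, map_mul, Equiv.Perm.mul_apply, v_pZero]
  have hv : phi vElt (phi x pZero) = phi x pZero := by
    have e : vElt = (vElt ^ 3) ^ 3 := by
      rw [← pow_mul, show 3 * 3 = 8 + 1 from rfl, pow_succ, v_pow, one_mul]
    rw [e]
    exact fix_pow hv3 3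
  rcases v_fix_only hv with h | h
  · exact (no_conj (mem_fix0 (Fin.ext h)) hx).elim
  have hfix : wElt⁻¹ * x ∈ fixSub phi [0] := by
    refine mem_fix0 ?_
    rw [map_mul, Equiv.Perm.mul_apply, map_inv, Equiv.Perm.inv_def, Equiv.symm_apply_eq]
    exact Fin.ext (h.trans w_pZero.symm)
  have hcom : wElt⁻¹ * x * vElt = vElt * (wElt⁻¹ * x) := by
    rw [mul_assoc, hx, inv_mul_eq_iff_eq_mul, ← mul_assoc, ← mul_assoc, wv,
      mul_assoc (vElt ^ 3) wElt, mul_inv_cancel, mul_one]
  obtain ⟨i, hi, e⟩ := cent_complete hfix hcom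
  refine List.mem_map.2 ⟨i, List.mem_range.2 hi, ?_⟩
  rw [act_append]
  exact ((inv_mul_eq_iff_eq_mul.1 e).symm)

theorem u_first : phi xElt pZero = pZero := xElt_mem pZero (by simp [pZero])

theorem card_17 : ¬ 17 ^ 2 ∣ Nat.card Cfsg.Spor.He := by
  rw [card_he.2]; norm_num

theorem act_triple (k : ℕ) (z : List ℕ) (hk : k = 1 ∨ k = 3) (α : MulAut Cfsg.Spor.He)
    (hu : α xElt = xElt ^ k) (hv : α vElt = vElt) (hw : α wElt = act heGen z) (p : List ℕ) :
    α (act heGen (expand (triple 1 wWord) p)) = act heGen (expand (triple k z) p) := by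
  rw [act_expand, act_expand]
  refine (act_map α.toMonoidHom _ p).trans (act_congr fun a _ => ?_)
  show α (act heGen ((triple 1 wWord).getD a [])) = act heGen ((triple k z).getD a [])
  rcases a with _ | _ | _ | a
  · show α (act heGen (if 1 = 1 then xWord else xWord ++ xWord ++ xWord)) =
      act heGen (if k = 1 then xWord else xWord ++ xWord ++ xWord)
    rw [if_pos rfl]
    refine hu.trans ?_
    rcases hk with rfl | rfl
    · rw [pow_one, if_pos rfl]; rfl
    · rw [if_neg (by decide), act_append, act_append, pow_succ, pow_two, mul_assoc]; rfl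
  · exact hv
  · exact hw
  · exact map_one α

theorem closure_three :
    Subgroup.closure {x | x ∈ xElt :: vElt :: [wElt]} = (⊤ : Subgroup Cfsg.Spor.He) := by
  set S := Subgroup.closure {x | x ∈ xElt :: vElt :: [wElt]} with hS
  have h3 : ∀ a, act heGen ((triple 1 wWord).getD a []) ∈ S := by
    intro a
    rcases a with _ | _ | _ | a
    · exact Subgroup.subset_closure (by show xElt ∈ _; simp)
    · exact Subgroup.subset_closure (by show vElt ∈ _; simp)
    · exact Subgroup.subset_closure (by show wElt ∈ _; simp)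
    · exact S.one_mem
  rw [eq_top_iff, ← closure_gens, genGrp, Subgroup.closure_le]
  rintro _ ⟨_, hw, rfl⟩
  obtain ⟨g, hg, rfl⟩ := List.mem_map.1 hw
  have h := gen_ok
  simp only [genOk, List.all_eq_true] at h
  have h7 : g < 7 := List.mem_range.1 hg
  rw [← eq_of_eqOn (ok_expand (ok_triple 1 ok_w) _)
    (fun a ha => by rw [List.mem_singleton.1 ha, ng_eq]; exact h7) (h g hg), act_expand]
  exact act_mem h3 _

theorem vpow_u (l k : ℕ) : vElt ^ l * xElt ^ k = xElt ^ (2 ^ l * k) * vElt ^ l := by
  induction l generalizing k with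
  | zero => simp
  | succ l ih =>
    have h : vElt * xElt ^ k = xElt ^ (2 * k) * vElt := by
      induction k with
      | zero => simp
      | succ k ihk =>
        rw [pow_succ, ← mul_assoc, ihk, mul_assoc, vu, ← mul_assoc, ← pow_add, Nat.mul_succ]
    rw [pow_succ vElt l, mul_assoc, h, ← mul_assoc, ih, mul_assoc, pow_succ 2 l, mul_assoc]

theorem normaliser (x : Cfsg.Spor.He) (hx : x * xElt = xElt ^ 2 * x) :
    ∃ i : ℕ, x = xElt ^ i * vElt ∧ ∃ a : ℕ, xElt ^ a * x * (xElt ^ a)⁻¹ = vElt := by
  haveI := card_he.1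
  have hc : vElt⁻¹ * x * xElt = xElt * (vElt⁻¹ * x) := by
    rw [mul_assoc, hx, inv_mul_eq_iff_eq_mul, ← mul_assoc, ← mul_assoc, vu,
      mul_assoc (xElt ^ 2) vElt, mul_inv_cancel, mul_one]
  obtain ⟨j, hj⟩ := (isOfFinOrder_of_finite xElt).mem_powers_iff_mem_zpowers.2
    (xElt_cent _ hc)
  have hj' : xElt ^ j = vElt⁻¹ * x := hj
  have hvu := vpow_u 1
  simp only [pow_one] at hvu
  have ex : x = xElt ^ (2 * j) * vElt := by
    rw [← hvu j, hj', mul_inv_cancel_left]
  refine ⟨2 * j, ex, 2 * j, ?_⟩
  have e : vElt * (xElt ^ (2 * j))⁻¹ = (xElt ^ (2 * (2 * j)))⁻¹ * vElt := by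
    rw [eq_inv_mul_iff_mul_eq, ← mul_assoc, ← hvu (2 * j), mul_inv_cancel_right]
  rw [ex, mul_assoc, mul_assoc, e, ← mul_assoc, ← mul_assoc, ← pow_add, ← two_mul,
    mul_inv_cancel, one_mul]

theorem reps_table : ∀ k : Fin 17, k.val ≠ 0 → ∃ l : Fin 8,
    2 ^ l.val * k.val % 17 = 1 ∨ 2 ^ l.val * k.val % 17 = 3 := by decide +kernel

theorem reps (k : ℕ) (hk : ¬ 17 ∣ k) :
    ∃ l : ℕ, ∃ k' ∈ [1, 3], vElt ^ l * xElt ^ k * (vElt ^ l)⁻¹ = xElt ^ k' := by
  obtain ⟨l, hl⟩ := reps_table ⟨k % 17, Nat.mod_lt _ (by norm_num)⟩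
    (fun h => hk (Nat.dvd_of_mod_eq_zero h))
  refine ⟨l.val, 2 ^ l.val * (k % 17) % 17, by simpa using hl, ?_⟩
  rw [vpow_u, mul_inv_cancel_right, ← pow_mod_orderOf, orderOf_xElt, Nat.mul_mod_mod]

/-- The two possible normalised automorphisms. -/
def valid : List (ℕ × List Cfsg.Spor.He) :=
  [(1, [act heGen (centWords.getD 0 [] ++ wWord)]), (3, [act heGen (centWords.getD 15 [] ++ wWord)])]

theorem others (k : ℕ) (hk : k ∈ [1, 3]) (xs : List Cfsg.Spor.He)
    (hlen : xs.length = [wElt].length) (hxs : ∀ x ∈ xs, x ∈ wList) :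
    (k, xs) ∈ valid ∨ ∀ α : MulAut Cfsg.Spor.He, α xElt = xElt ^ k → α vElt = vElt →
      [wElt].map α = xs → False := by
  obtain ⟨x, rfl⟩ := List.length_eq_one_iff.1 hlen
  obtain ⟨i, hi, rfl⟩ := List.mem_map.1 (hxs x (by simp))
  have hc := bad_cover
  simp only [badCover, List.all_eq_true, Bool.or_eq_true, decide_eq_true_eq, List.any_eq_true] at hc
  rcases hc k hk i hi with (h | h) | ⟨⟨c1, ⟨p, n⟩, q⟩, hmem, hci⟩
  · obtain ⟨rfl, rfl⟩ := Prod.mk.injEq .. ▸ h
    exact Or.inl (by simp [valid])
  · obtain ⟨rfl, rfl⟩ := Prod.mk.injEq .. ▸ h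
    exact Or.inl (by simp [valid])
  obtain rfl : c1 = (k, i) := hci
  refine Or.inr fun α hu hv hmap => ?_
  have hw : α wElt = act heGen (centWords.getD i [] ++ wWord) := by simpa using hmap
  have hb := bad_ok
  simp only [badOk, List.all_eq_true, Bool.and_eq_true, List.any_eq_true, decide_eq_true_eq,
    Bool.not_eq_true', Nat.blt_eq] at hb
  obtain ⟨⟨⟨⟨p', n'⟩, hp', he⟩, hmove⟩, hq⟩ := hb _ hmem
  obtain ⟨rfl, rfl⟩ := Prod.mk.injEq .. ▸ he
  have htriv := bad_trivial
  simp only [List.all_eq_true] at htriv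
  have h1 := eq_of_eqOn (ok_rep (ok_expand (ok_triple 1 ok_w) _) _) ok_nil (htriv _ hp')
  rw [act_nil, act_rep] at h1
  have h2 := congrArg α h1
  rw [map_pow, map_one, act_triple k _ (by simpa using hk) α hu hv hw, ← act_rep] at h2
  have h3 := realised.act_apply (φ := phi)
    (ok_rep (ok_expand (ok_triple k (ok_append (ok_cent i) ok_w)) p') n') ⟨q, hq⟩
  rw [h2, map_one] at h3
  dsimp only [Equiv.Perm.one_apply] at h3
  have hne := hmove
  rw [← h3] at hne
  simp at hne

/-- The outer automorphism group has at most two elements. -/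
theorem card_le_two : Nat.card (Cfsg.Out Cfsg.Spor.He) ≤ 2 := by
  haveI := card_he.1
  haveI : Fact (Nat.Prime 17) := ⟨by norm_num⟩
  exact MathieuOut.card_out_le orderOf_xElt card_17 closure_three vu
    (fun w hw => by rw [List.mem_singleton.1 hw]; exact wv) normaliser [1, 3] reps wList
    (fun _ h => w_list h) valid others

/-! ## The outer automorphism -/

/-- The images of the generators. -/
def imgGen (g : ℕ) : Cfsg.Spor.He := act heGen (imgWords.getD g [])

theorem img_rel {r : List ℕ} (hr : r ∈ relData) : act imgGen r = 1 := by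
  have h := img_rels
  simp only [imgRels, List.all_eq_true] at h
  have e := eq_of_eqOn (ok_expand ok_img r) ok_nil (h r hr)
  rwa [act_expand, act_nil] at e

theorem imgGen_sq (g : ℕ) (hg : g < 7) : imgGen g * imgGen g = 1 := by
  have h := img_rel (r := [g, g]) (by interval_cases g <;> decide +kernel)
  simpa [act_cons, act_nil] using h

theorem lift_img (L : List (Cfsg.Spor.He.Gen × Bool)) :
    FreeGroup.lift (fun x => imgGen (genIx x)) (FreeGroup.mk L) =
      act imgGen (L.map fun p => genIx p.1).reverse := by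
  induction L with
  | nil =>
    rw [← FreeGroup.one_eq_mk, map_one]
    rfl
  | cons p L ih =>
    obtain ⟨x, b⟩ := p
    rw [show FreeGroup.mk ((x, b) :: L) = FreeGroup.mk [(x, b)] * FreeGroup.mk L from rfl, map_mul,
      ih, List.map_cons, List.reverse_cons, act_append, act_cons, act_nil, one_mul]
    congr 1
    cases b
    · have e : FreeGroup.mk [(x, false)] = (FreeGroup.of x)⁻¹ := rfl
      rw [e, map_inv, FreeGroup.lift_apply_of]
      exact inv_eq_of_mul_eq_one_right (imgGen_sq _ (genIx_lt x))
    · exact FreeGroup.lift_apply_of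

theorem img_heRels : ∀ w ∈ heRels, act imgGen w = 1 := by
  intro w hw
  have h := heRels_data
  simp only [List.all_eq_true, Bool.and_eq_true, Bool.or_eq_true, Nat.blt_eq,
    List.contains_iff_mem] at h
  obtain ⟨hlt, hm | hm⟩ := h w hw
  · exact img_rel hm
  · have h2 := img_rel hm
    rwa [act_reverse (ng := 7) imgGen_sq hlt, inv_eq_one] at h2

/-- The endomorphism given by the images. -/
def alphaHom : Cfsg.Spor.He →* Cfsg.Spor.He :=
  PresentedGroup.toGroup (f := fun x => imgGen (genIx x)) fun r hr => by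
    have hr' : r ∈ relList := relList_mem.2 hr
    rw [← FreeGroup.mk_toWord (x := r), lift_img]
    exact img_heRels _ (List.mem_map.2 ⟨r, hr', rfl⟩)

theorem alpha_act {w : List ℕ} (hw : Ok w) : alphaHom (act heGen w) = act heGen (expand imgWords w) := by
  rw [act_map, act_expand]
  refine act_congr fun a ha => ?_
  have h7 : a < 7 := hw a ha
  rw [heGen, alphaHom, PresentedGroup.toGroup.of]
  interval_cases a <;> rfl

theorem alpha_bij : Function.Bijective alphaHom := by
  haveI := card_he.1
  haveI := simple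
  refine (Finite.injective_iff_bijective).1 ((MonoidHom.ker_eq_bot_iff _).1 ?_)
  rcases (MonoidHom.normal_ker alphaHom).eq_bot_or_eq_top with h | h
  · exact h
  exfalso
  have e : act heGen [0] ∈ alphaHom.ker := by rw [h]; trivial
  have ok0 : Ok [0] := by intro g hg; rw [List.mem_singleton.1 hg, ng_eq]; norm_num
  rw [MonoidHom.mem_ker, alpha_act ok0] at e
  have e' := eqOn_of_eq (ok_img 0) ok_nil basePts_lt (by
    rw [act_nil, ← e, expand, List.flatMap_singleton])
  rw [img_xv.2.2] at e'
  exact Bool.noConfusion e'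

/-- The outer automorphism. -/
noncomputable def alpha : MulAut Cfsg.Spor.He := MulEquiv.ofBijective alphaHom alpha_bij

theorem alpha_u : alpha xElt = xElt ^ 3 := by
  show alphaHom (act heGen xWord) = _
  rw [alpha_act ok_x, eq_of_eqOn (ok_expand ok_img _) (ok_append (ok_append ok_x ok_x) ok_x) img_xv.1,
    act_append, act_append, ← mul_assoc, pow_succ, pow_two]
  rfl

theorem alpha_v : alpha vElt = vElt := by
  show alphaHom (act heGen vWord) = _
  rw [alpha_act ok_v, eq_of_eqOn (ok_expand ok_img _) ok_v img_xv.2.1]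
  rfl

theorem alpha_outer (g : Cfsg.Spor.He) : MulAut.conj g ≠ alpha := by
  intro h
  have hu : g * xElt * g⁻¹ = xElt ^ 3 := by rw [← alpha_u, ← h]; rfl
  have hv : g * vElt * g⁻¹ = vElt := by
    conv_rhs => rw [← alpha_v, ← h]
    rfl
  rw [mul_inv_eq_iff_eq_mul] at hu hv
  have h3 : phi (xElt ^ 3) (phi g pZero) = phi g pZero := by
    rw [← Equiv.Perm.mul_apply, ← map_mul, ← hu, map_mul, Equiv.Perm.mul_apply, u_first]
  have h1 : phi xElt (phi g pZero) = phi g pZero := by
    have e : xElt = (xElt ^ 3) ^ 6 := by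
      rw [← pow_mul, show 3 * 6 = 17 + 1 from rfl, pow_succ, xElt_pow, one_mul]
    rw [e]
    exact fix_pow h3 6
  have hg0 : g ∈ fixSub phi [0] := mem_fix0 (Fin.ext (x_fix_only h1))
  obtain ⟨i, hi, rfl⟩ := cent_complete hg0 hv
  have hc := cent_ok
  simp only [centOk, Bool.and_eq_true, decide_eq_true_eq] at hc
  have hl : i < centWords.length := by rw [hc.1.1]; exact hi
  have hno := no_third
  simp only [noThird, List.all_eq_true, Bool.not_eq_true'] at hno
  have e := hno _ (List.getElem_mem hl)
  rw [← List.getD_eq_getElem _ [] hl, eqOn_of_eq (ok_append ok_x (ok_cent i))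
    (ok_append (ok_cent i) (ok_append (ok_append ok_x ok_x) ok_x)) basePts_lt ?_] at e
  · exact Bool.noConfusion e
  rw [act_append, act_append, act_append, act_append, ← mul_assoc (act heGen xWord)]
  rw [pow_succ, pow_two] at hu
  exact hu

/-- The outer automorphism group has two elements. -/
theorem card_out : Nat.card (Cfsg.Out Cfsg.Spor.He) = 2 := by
  haveI := card_he.1
  exact le_antisymm card_le_two (MathieuOut.two_le_card_out alpha alpha_outer)

end CfsgLib.He.Out
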