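import Cfsg.Agent.Lib.He.OutData
import Cfsg.Agent.Lib.PresCert.Table

/-!
# Kernel checks for the outer automorphisms of the Held group
-/

set_option autoImplicit false
set_option maxRecDepth 100000
set_option maxHeartbeats 0

namespace CfsgLib.He.Out

open CfsgLib.PresCert

/-- The points of the base with the first point. -/
def basePts : List ℕ := 0 :: levelsV.map Level.base

/-- Two words act alike on the base. -/
def eqOn (p q : List ℕ) : Bool :=
  basePts.all fun i => Nat.beq (tab.walk i p) (tab.walk i q)

/-- The words of the three elements, with the third one a parameter. -/
def triple (k : ℕ) (w : List ℕ) : List (List ℕ) :=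
  [if k = 1 then xWord else xWord ++ xWord ++ xWord, vWord, w]

/-- The word of a product in the three elements. -/
def expand (T : List (List ℕ)) (p : List ℕ) : List ℕ := p.flatMap fun a => T.getD a []

/-- A power of a word. -/
def rep : ℕ → List ℕ → List ℕ
  | 0, _ => []
  | n + 1, p => p ++ rep n p

/-- The images of the base that an element fixing the first point can have when it carries the element
of order eight to the element of the word `z`, given the image of the first base point. -/
def chain (z : List ℕ) : ℕ → ℕ → List ℕ
  | 0, _ => []
  | n + 1, y => y :: chain z n (tab.walk y z.reverse)

/-- The base goes backwards along a cycle of the element of order eight. -/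
def baseChain : Bool :=
  decide (levelsV.length = 5) &&
    decide (chain vWord levelsV.length (basePts.getD 1 0) = levelsV.map Level.base)

/-- The images of the first base point under such elements. -/
def survivors (z : List ℕ) : List ℕ :=
  ((levelsV.getD 0 ⟨0, [], [], []⟩).pts).filter fun y =>
    !(noElement tab levelsV (chain z levelsV.length y))

theorem base_chain : baseChain = true := by decide +kernel

/-- The words of all data use the seven generators. -/
def wordsOk : Bool :=
  ([xWord, vWord, v3Word, wWord] ++ centWords ++ imgWords).all fun w =>
    w.all fun g => Nat.blt g 7

theorem words_ok : wordsOk = true := by decide +kernel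

theorem levelsV_ok : levelsOk tab [0] levelsV = true := by decide +kernel

theorem levelsV_card : (levelsV.map fun l => l.pts.length).prod = 1958400 := by decide +kernel

theorem v_fix : threeBlocks (fun b => (List.range 1000).all fun j =>
    !(Nat.blt (1000 * b + j) tab.n) || Nat.beq (1000 * b + j) 0 || Nat.beq (1000 * b + j) 960 ||
      !(Nat.beq (tab.walk (1000 * b + j) vWord) (1000 * b + j))) = true := by decide +kernel

theorem v_zero : tab.walk 0 vWord = 0 ∧ tab.walk 0 v3Word = 0 ∧ tab.walk 0 wWord = 960 := by
  decide +kernel

theorem vu_rel : eqOn (xWord ++ vWord) (vWord ++ (xWord ++ xWord)) = true := by decide +kernel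

theorem v3_rel : eqOn v3Word (rep 3 vWord) = true := by decide +kernel

theorem wv_rel : eqOn (vWord ++ wWord) (wWord ++ v3Word) = true := by decide +kernel

/-- The listed elements commute with the element of order eight, fix the first point and are
distinct. -/
def centOk : Bool :=
  decide (centWords.length = 16) && centWords.all (fun c =>
      eqOn (vWord ++ c) (c ++ vWord) && Nat.beq (tab.walk 0 c) 0) &&
    nodupB 0 (centWords.map fun c => tab.walk (basePts.getD 1 0) c)

theorem cent_ok : centOk = true := by decide +kernel

theorem cent_count : (survivors vWord).length ≤ 16 := by decide +kernel

theorem conj_count : (survivors v3Word).length = 0 := by decide +kernel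

/-- No listed element raises the element of order seventeen to the third power. -/
def noThird : Bool :=
  centWords.all fun c => !(eqOn (xWord ++ c) (c ++ (xWord ++ xWord ++ xWord)))

theorem no_third : noThird = true := by decide +kernel

/-- The generators as products of the three elements. -/
def genOk : Bool :=
  (List.range 7).all fun g => eqOn (expand (triple 1 wWord) (genWords.getD g [])) [g]

theorem gen_ok : genOk = true := by decide +kernel

/-- The words in the three elements that separate the candidates. -/
def badWords : List (List ℕ × ℕ) := [([0, 2], 14), ([0, 0, 2], 21), ([0, 1, 2], 12)]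

theorem bad_trivial :
    badWords.all (fun p => eqOn (rep p.2 (expand (triple 1 wWord) p.1)) []) = true := by
  decide +kernel

/-- The false candidates. -/
def badOk : Bool :=
  badData.all fun c =>
    badWords.any (fun p => decide (p = c.2.1)) &&
      !(Nat.beq (tab.walk c.2.2
        (rep c.2.1.2 (expand (triple c.1.1 (centWords.getD c.1.2 [] ++ wWord)) c.2.1.1))) c.2.2) &&
      Nat.blt c.2.2 tab.n

theorem bad_ok : badOk = true := by decide +kernel

/-- All candidates but two are false. -/
def badCover : Bool :=
  [1, 3].all fun k => (List.range 16).all fun i =>
    decide ((k, i) = (1, 0) ∨ (k, i) = (3, 15)) || badData.any fun c => decide (c.1 = (k, i))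

theorem bad_cover : badCover = true := by decide +kernel

/-- The images satisfy the relations. -/
def imgRels : Bool :=
  relData.all fun r => eqOn (expand imgWords r) []

theorem img_rels : imgRels = true := by decide +kernel

theorem img_xv : eqOn (expand imgWords xWord) (xWord ++ xWord ++ xWord) = true ∧
    eqOn (expand imgWords vWord) vWord = true ∧ eqOn (imgWords.getD 0 []) [] = false := by
  decide +kernel

end CfsgLib.He.Out
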