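import Cfsg.Agent.Lib.He.PermCheck

/-!
# Data for the outer automorphisms of the Held group

A base adapted to an element of order eight of the normaliser of the element of order seventeen,
the centraliser of that element, the words of the seven generators in three elements, and the images
of the generators under an outer automorphism.
-/

set_option autoImplicit false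

namespace CfsgLib.He.Out

open CfsgLib.PresCert

/-- An element of order eight normalising the element of order seventeen. -/
def vWord : List ℕ := [2, 4, 3, 5, 3, 0, 1, 0, 1, 2, 1, 2, 3, 4, 1, 2, 3, 4, 1, 2, 3, 4, 1, 2, 3, 4, 1, 2, 3, 4, 1, 2, 3, 4, 1, 2, 3, 4, 5, 3, 2, 3, 4, 5, 3, 2, 1, 2, 3, 4, 1, 2, 3, 4, 1, 2, 3, 4, 1, 2, 3, 4, 1, 2, 3, 4, 1, 2, 3, 4, 1, 2, 3, 4, 3, 5, 3, 4]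

/-- A word for its third power. -/
def v3Word : List ℕ := [4, 3, 0, 1, 0, 1, 2, 3, 5, 1, 2, 3, 4, 1, 2, 3, 4, 1, 2, 3, 4, 1, 2, 3, 4, 1, 2, 3, 4, 1, 2, 3, 4, 1, 2, 3, 4, 3, 2, 5, 3, 2, 4, 3, 5, 1, 2, 3, 4, 1, 2, 3, 4, 1, 2, 3, 4, 1, 2, 3, 4, 1, 2, 3, 4, 1, 2, 3, 4, 1, 2, 3, 4, 5]

/-- The third generating element. -/
def wWord : List ℕ := [2, 3, 4, 3, 2, 3, 5, 3, 2, 3, 2, 1, 6, 3, 2, 1, 3, 2, 4, 6, 3, 2, 3]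

/-- The centraliser of the element of order eight. -/
def centWords : List (List ℕ) := [
  [],
  [2, 3, 2, 4, 3, 5, 3, 4, 1, 2, 3, 4, 1, 2, 3, 4, 1, 2, 3, 4, 1, 2, 3, 4, 1, 2, 3, 4, 1, 2, 3, 4, 1, 2, 3, 4, 5, 3, 2, 4, 3, 2, 5, 3, 2, 3, 2, 5],
  [3, 0, 1, 0, 1, 2, 3, 4, 5, 3, 1, 2, 3, 4, 1, 2, 3, 4, 1, 2, 3, 4, 1, 2, 3, 4, 1, 2, 3, 4, 1, 2, 3, 4, 1, 2, 3, 4, 5, 3, 2, 3, 5, 1, 2, 3, 4, 1, 2, 3, 4, 1, 2, 3, 4, 1, 2, 3, 4, 1, 2, 3, 4, 1, 2, 3, 4, 1, 2, 3, 4, 4, 5, 3, 4],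
  [0, 2, 3, 5, 3, 2, 3, 4, 3, 2, 3, 5, 3, 2],
  [2, 3, 2, 3, 4, 3, 2, 5, 3, 1, 2, 3, 4, 1, 2, 3, 4, 1, 2, 3, 4, 1, 2, 3, 4, 1, 2, 3, 4, 1, 2, 3, 4, 1, 2, 3, 4, 5, 3, 2, 3, 4, 3, 5, 3],
  [2, 4, 3, 5, 3, 0, 1, 0, 1, 2, 1, 2, 3, 4, 1, 2, 3, 4, 1, 2, 3, 4, 1, 2, 3, 4, 1, 2, 3, 4, 1, 2, 3, 4, 1, 2, 3, 4, 5, 3, 2, 3, 4, 5, 3, 2, 1, 2, 3, 4, 1, 2, 3, 4, 1, 2, 3, 4, 1, 2, 3, 4, 1, 2, 3, 4, 1, 2, 3, 4, 1, 2, 3, 4, 3, 5, 3, 4],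
  [4, 3, 0, 1, 0, 1, 2, 3, 5, 1, 2, 3, 4, 1, 2, 3, 4, 1, 2, 3, 4, 1, 2, 3, 4, 1, 2, 3, 4, 1, 2, 3, 4, 1, 2, 3, 4, 3, 2, 5, 3, 2, 4, 3, 5, 1, 2, 3, 4, 1, 2, 3, 4, 1, 2, 3, 4, 1, 2, 3, 4, 1, 2, 3, 4, 1, 2, 3, 4, 1, 2, 3, 4, 5],
  [0, 5, 1, 2, 3, 4, 1, 2, 3, 4, 1, 2, 3, 4, 1, 2, 3, 4, 1, 2, 3, 4, 1, 2, 3, 4, 1, 2, 3, 4, 0, 5, 3, 2, 4, 3, 2, 5, 1, 2, 3, 4, 1, 2, 3, 4, 1, 2, 3, 4, 1, 2, 3, 4, 1, 2, 3, 4, 1, 2, 3, 4, 1, 2, 3, 4, 3, 5, 3, 2, 3, 4, 0, 1, 0, 1],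
  [0, 4, 3, 5, 3, 2, 3, 4, 1, 2, 3, 4, 1, 2, 3, 4, 1, 2, 3, 4, 1, 2, 3, 4, 1, 2, 3, 4, 1, 2, 3, 4, 1, 2, 3, 4, 5, 3, 2, 3, 2, 5, 1, 2, 3, 4, 1, 2, 3, 4, 1, 2, 3, 4, 1, 2, 3, 4, 1, 2, 3, 4, 1, 2, 3, 4, 1, 2, 3, 4, 3, 5, 3, 2, 0, 1, 0, 1],
  [2, 3, 5, 3, 2, 3, 1, 2, 3, 4, 1, 2, 3, 4, 1, 2, 3, 4, 1, 2, 3, 4, 1, 2, 3, 4, 1, 2, 3, 4, 1, 2, 3, 4, 5, 3, 2, 1, 2, 3, 4, 1, 2, 3, 4, 1, 2, 3, 4, 1, 2, 3, 4, 1, 2, 3, 4, 1, 2, 3, 4, 1, 2, 3, 4, 3, 5, 3, 2],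
  [3, 4, 3, 5, 3, 2, 4, 3, 2, 5, 1, 2, 3, 4, 1, 2, 3, 4, 1, 2, 3, 4, 1, 2, 3, 4, 1, 2, 3, 4, 1, 2, 3, 4, 1, 2, 3, 4, 4, 5, 3, 2, 4, 3, 2],
  [1, 2, 3, 4, 1, 2, 3, 4, 1, 2, 3, 4, 1, 2, 3, 4, 1, 2, 3, 4, 1, 2, 3, 4, 1, 2, 3, 4, 4, 5, 3, 2, 3, 4, 5, 1, 2, 3, 4, 1, 2, 3, 4, 1, 2, 3, 4, 1, 2, 3, 4, 1, 2, 3, 4, 1, 2, 3, 4, 1, 2, 3, 4, 5, 3, 0, 1, 0, 1, 2, 3, 2, 3, 4],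
  [0, 2, 3, 5, 3, 2, 3, 4, 1, 2, 3, 4, 1, 2, 3, 4, 1, 2, 3, 4, 1, 2, 3, 4, 1, 2, 3, 4, 1, 2, 3, 4, 1, 2, 3, 4, 5, 3, 2, 1, 2, 3, 4, 1, 2, 3, 4, 1, 2, 3, 4, 1, 2, 3, 4, 1, 2, 3, 4, 1, 2, 3, 4, 1, 2, 3, 4, 3, 5, 3, 2],
  [2, 5, 3, 2, 3, 2, 5, 3, 2, 3, 4, 3, 5, 1, 2, 3, 4, 1, 2, 3, 4, 1, 2, 3, 4, 1, 2, 3, 4, 1, 2, 3, 4, 1, 2, 3, 4, 1, 2, 3, 4, 3, 5, 3, 2, 4, 3, 2],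
  [3, 4, 3, 5, 3, 1, 2, 3, 4, 1, 2, 3, 4, 1, 2, 3, 4, 1, 2, 3, 4, 1, 2, 3, 4, 1, 2, 3, 4, 1, 2, 3, 4, 5, 3, 2, 3, 5, 1, 2, 3, 4, 1, 2, 3, 4, 1, 2, 3, 4, 1, 2, 3, 4, 1, 2, 3, 4, 1, 2, 3, 4, 1, 2, 3, 4, 4, 5, 3, 2, 3, 0, 1, 0, 1],
  [2, 4, 3, 2, 3, 5, 0, 1, 0, 1, 2, 1, 2, 3, 4, 1, 2, 3, 4, 1, 2, 3, 4, 1, 2, 3, 4, 1, 2, 3, 4, 1, 2, 3, 4, 1, 2, 3, 4, 5, 3, 2, 3, 5, 1, 2, 3, 4, 1, 2, 3, 4, 1, 2, 3, 4, 1, 2, 3, 4, 1, 2, 3, 4, 1, 2, 3, 4, 1, 2, 3, 4, 4]]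

/-- The seven generators as words in the three elements. -/
def genWords : List (List ℕ) := [
  [0, 2, 0, 2, 1, 0, 2, 0, 1, 1, 2, 1, 0, 0, 0, 0, 0, 0, 0, 0, 0, 0, 0, 0, 0, 0, 0, 0, 2, 2, 2, 0, 0, 0, 0, 0, 0, 0, 0, 0, 0, 0, 0, 0, 0, 0, 0, 1, 1, 1, 1, 1, 1, 1, 2, 2, 2, 0, 0, 0, 0, 0, 0, 0, 0, 0, 0, 0, 0, 0, 0, 0, 0, 2, 2, 2, 0, 0, 1, 0, 2, 0, 2, 1, 0, 2, 0, 1, 1, 2, 1, 0, 0, 0, 0, 0, 0, 0, 0, 0, 0, 0, 0, 0, 0, 0, 0, 2, 2, 2, 0, 0, 0, 0, 0, 0, 0, 0, 0, 0, 0, 0, 0, 0, 0, 0, 1, 1, 1, 1, 1, 1, 1, 2, 2, 2, 0, 0, 0, 0, 0, 0, 0, 0, 0, 0, 0, 0, 0, 0, 0, 0, 2, 2, 2, 0, 0, 1],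
  [0, 0, 0, 1, 1, 1, 2, 0, 2, 1, 0, 2, 0, 1, 1, 2, 1, 0, 0, 0, 0, 0, 0, 0, 0, 0, 0, 0, 0, 0, 0, 0, 0, 2, 2, 2, 0, 0, 0, 0, 0, 0, 0, 0, 0, 0, 0, 0, 0, 0, 0, 0, 1, 1, 1, 1, 1, 1, 1, 2, 2, 2, 0, 0, 0, 0, 0, 0, 0, 0, 0, 0, 0, 0, 0, 0, 0, 0, 2, 2, 2, 1, 1, 1, 1, 0, 1, 2, 0, 2, 1, 0, 2, 0, 1, 1, 2, 1, 0, 0, 0, 0, 0, 0, 0, 0, 0, 0, 0, 0, 0, 0, 0, 0, 2, 2, 2, 0, 0, 0, 0, 0, 0, 0, 0, 0, 0, 0, 0, 0, 0, 0, 0, 1, 1, 1, 1, 1, 1, 1, 2, 2, 2, 0, 0, 0, 0, 0, 0, 0, 0, 0, 0, 0, 0, 0, 0, 0, 0, 2, 2, 2, 0, 0, 0, 1, 1, 1, 1, 1, 2, 0, 0, 0, 1, 2, 0, 2, 0, 2, 0, 2],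
  [0, 0, 1, 0, 1, 0, 2, 0, 2, 1, 0, 2, 0, 1, 1, 2, 1, 0, 0, 0, 0, 0, 0, 0, 0, 0, 0, 0, 0, 0, 0, 0, 0, 2, 2, 2, 0, 0, 0, 0, 0, 0, 0, 0, 0, 0, 0, 0, 0, 0, 0, 0, 1, 1, 1, 1, 1, 1, 1, 2, 2, 2, 0, 0, 0, 0, 0, 0, 0, 0, 0, 0, 0, 0, 0, 0, 0, 0, 2, 2, 2, 0, 0, 0, 0, 0, 0, 0, 1, 2, 0, 0, 1, 2, 0, 0, 2, 0, 0, 2, 0, 0, 0, 0, 0, 0, 0, 0, 0, 0, 0, 0, 0, 0, 0, 0, 1, 1, 1, 1, 1, 1, 1, 0, 0, 0, 0, 0, 0, 0, 0, 0, 0, 0, 0, 0, 0, 0, 0, 2, 2, 2, 0, 0, 0, 0, 0, 0, 0, 0, 0, 0, 0, 0, 0, 0, 0, 0, 0, 0, 0, 0, 0, 0, 0, 0, 0, 0, 0, 0, 0, 0, 0, 0, 2, 2, 2, 0, 1, 1, 1, 0],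
  [1, 1, 0, 1, 1, 0, 1, 1, 1, 2, 0, 2, 1, 0, 2, 0, 1, 1, 2, 1, 0, 0, 0, 0, 0, 0, 0, 0, 0, 0, 0, 0, 0, 0, 0, 0, 2, 2, 2, 0, 0, 0, 0, 0, 0, 0, 0, 0, 0, 0, 0, 0, 0, 0, 0, 1, 1, 1, 1, 1, 1, 1, 2, 2, 2, 0, 0, 0, 0, 0, 0, 0, 0, 0, 0, 0, 0, 0, 0, 0, 0, 2, 2, 2, 0, 0, 2, 0, 0, 1, 2, 0, 0, 2, 0, 0, 2, 0, 0, 0, 0, 0, 0, 0, 0, 0, 0, 0, 0, 0, 0, 0, 0, 1, 1, 1, 1, 1, 1, 1, 0, 0, 0, 0, 0, 0, 0, 0, 0, 0, 0, 0, 0, 0, 0, 0, 2, 2, 2, 0, 0, 0, 0, 0, 0, 0, 0, 0, 0, 0, 0, 0, 0, 0, 0, 0, 0, 0, 0, 0, 0, 0, 0, 0, 0, 0, 0, 0, 0, 0, 0, 2, 2, 2, 0, 1, 0],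
  [0, 1, 0, 2, 0, 2, 1, 0, 2, 0, 1, 1, 2, 1, 0, 0, 0, 0, 0, 0, 0, 0, 0, 0, 0, 0, 0, 0, 0, 0, 2, 2, 2, 0, 0, 0, 0, 0, 0, 0, 0, 0, 0, 0, 0, 0, 0, 0, 0, 1, 1, 1, 1, 1, 1, 1, 2, 2, 2, 0, 0, 0, 0, 0, 0, 0, 0, 0, 0, 0, 0, 0, 0, 0, 0, 2, 2, 2, 1, 0, 1, 1, 1, 0, 2, 0, 2, 1, 0, 2, 0, 1, 1, 2, 1, 0, 0, 0, 0, 0, 0, 0, 0, 0, 0, 0, 0, 0, 0, 0, 0, 2, 2, 2, 0, 0, 0, 0, 0, 0, 0, 0, 0, 0, 0, 0, 0, 0, 0, 0, 1, 1, 1, 1, 1, 1, 1, 2, 2, 2, 0, 0, 0, 0, 0, 0, 0, 0, 0, 0, 0, 0, 0, 0, 0, 0, 2, 2, 2, 0, 1, 1, 0, 1, 1, 1, 1, 1],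
  [0, 0, 1, 2, 0, 0, 1, 2, 0, 0, 2, 0, 0, 2, 0, 0, 0, 0, 0, 0, 0, 0, 0, 0, 0, 0, 0, 0, 0, 0, 1, 1, 1, 1, 1, 1, 1, 0, 0, 0, 0, 0, 0, 0, 0, 0, 0, 0, 0, 0, 0, 0, 0, 2, 2, 2, 0, 0, 0, 0, 0, 0, 0, 0, 0, 0, 0, 0, 0, 0, 0, 0, 0, 0, 0, 0, 0, 0, 0, 0, 0, 0, 0, 0, 0, 0, 0, 0, 2, 2, 2, 1, 1, 1, 1, 1, 0, 2, 0, 2, 1, 0, 2, 0, 1, 1, 2, 1, 0, 0, 0, 0, 0, 0, 0, 0, 0, 0, 0, 0, 0, 0, 0, 0, 2, 2, 2, 0, 0, 0, 0, 0, 0, 0, 0, 0, 0, 0, 0, 0, 0, 0, 0, 1, 1, 1, 1, 1, 1, 1, 2, 2, 2, 0, 0, 0, 0, 0, 0, 0, 0, 0, 0, 0, 0, 0, 0, 0, 0, 2, 2, 2, 1, 0, 1, 1, 0, 1],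
  [1, 1, 0, 1, 1, 0, 2, 0, 2, 1, 0, 2, 0, 1, 1, 2, 1, 0, 0, 0, 0, 0, 0, 0, 0, 0, 0, 0, 0, 0, 0, 0, 0, 2, 2, 2, 0, 0, 0, 0, 0, 0, 0, 0, 0, 0, 0, 0, 0, 0, 0, 0, 1, 1, 1, 1, 1, 1, 1, 2, 2, 2, 0, 0, 0, 0, 0, 0, 0, 0, 0, 0, 0, 0, 0, 0, 0, 0, 2, 2, 2, 0, 1, 1, 1, 1, 1, 1, 1, 2, 0, 0, 1, 2, 0, 0, 2, 0, 0, 2, 0, 0, 0, 0, 0, 0, 0, 0, 0, 0, 0, 0, 0, 0, 0, 0, 1, 1, 1, 1, 1, 1, 1, 0, 0, 0, 0, 0, 0, 0, 0, 0, 0, 0, 0, 0, 0, 0, 0, 2, 2, 2, 0, 0, 0, 0, 0, 0, 0, 0, 0, 0, 0, 0, 0, 0, 0, 0, 0, 0, 0, 0, 0, 0, 0, 0, 0, 0, 0, 0, 0, 0, 0, 0, 2, 2, 2, 1, 0, 1, 1, 1, 2, 0, 2, 0, 2, 0, 0, 2, 0, 1, 1]]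

/-- The images of the seven generators under an outer automorphism. -/
def imgWords : List (List ℕ) := [
  [4, 5, 3, 2, 3, 4, 3, 2, 5, 3, 2, 1, 2, 3, 4, 1, 2, 3, 4, 1, 2, 3, 4, 1, 2, 3, 4, 1, 2, 3, 4, 1, 2, 3, 4, 1, 2, 3, 4, 0, 5, 3, 2, 4, 1, 2, 3, 4, 1, 2, 3, 4, 1, 2, 3, 4, 1, 2, 3, 4, 1, 2, 3, 4, 1, 2, 3, 4, 1, 2, 3, 4, 5, 3, 2, 4, 3],
  [2, 5, 3, 2, 3, 2, 5, 1, 2, 3, 4, 1, 2, 3, 4, 1, 2, 3, 4, 1, 2, 3, 4, 1, 2, 3, 4, 1, 2, 3, 4, 1, 2, 3, 4, 5, 3, 2, 3, 2, 5, 3, 2, 3, 1, 2, 3, 2, 1, 0, 3, 2, 5, 6, 3],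
  [4, 3, 2, 3, 5, 3, 2, 3, 2, 4, 3, 1, 2, 3, 4, 1, 2, 3, 4, 1, 2, 3, 4, 1, 2, 3, 4, 1, 2, 3, 4, 1, 2, 3, 4, 1, 2, 3, 4, 5, 3, 2, 1, 2, 3, 4, 1, 2, 3, 4, 1, 2, 3, 4, 1, 2, 3, 4, 1, 2, 3, 4, 1, 2, 3, 4, 1, 2, 3, 4],
  [0, 4, 3, 2, 3, 2, 4, 5, 3, 2, 3, 1, 2, 3, 4, 1, 2, 3, 4, 1, 2, 3, 4, 1, 2, 3, 4, 1, 2, 3, 4, 1, 2, 3, 4, 1, 2, 3, 4, 5, 3, 2, 3, 5, 1, 2, 3, 4, 1, 2, 3, 4, 1, 2, 3, 4, 1, 2, 3, 4, 1, 2, 3, 4, 1, 2, 3, 4, 1, 2, 3, 4, 5, 3, 2, 4, 3],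
  [3, 2, 3, 2, 3, 5, 3, 2, 3, 4, 3, 5, 3, 1, 2, 3, 4, 1, 2, 3, 4, 1, 2, 3, 4, 1, 2, 3, 4, 1, 2, 3, 4, 1, 2, 3, 4, 1, 2, 3, 4, 5, 3, 2, 3, 4, 5, 3],
  [2, 3, 2, 3, 5, 3, 2, 3, 2, 5, 3, 2, 3, 5, 1, 2, 3, 4, 1, 2, 3, 4, 1, 2, 3, 4, 1, 2, 3, 4, 1, 2, 3, 4, 1, 2, 3, 4, 1, 2, 3, 4, 3, 5, 3, 2, 3, 2, 5, 3, 2, 3, 5],
  [2, 3, 2, 5, 3, 2, 3, 0, 1, 0, 1, 2, 3, 2, 1, 2, 3, 4, 1, 2, 3, 4, 1, 2, 3, 4, 1, 2, 3, 4, 1, 2, 3, 4, 1, 2, 3, 4, 1, 2, 3, 4, 5, 3, 1, 2, 3, 4, 1, 2, 3, 4, 1, 2, 3, 4, 1, 2, 3, 4, 1, 2, 3, 4, 1, 2, 3, 4, 1, 2, 3, 4, 4, 1, 2, 3, 2, 1, 0, 3, 2, 5, 3, 2, 4, 3]]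

/-- For each false candidate: a word in the three elements, trivial for them, and a point moved by its
image. -/
def badData : List ((ℕ × ℕ) × (List ℕ × ℕ) × ℕ) := [
  ((1, 1), ([0, 2], 14), 0),
  ((1, 2), ([0, 2], 14), 0),
  ((1, 3), ([0, 2], 14), 0),
  ((1, 4), ([0, 2], 14), 0),
  ((1, 5), ([0, 2], 14), 0),
  ((1, 6), ([0, 2], 14), 0),
  ((1, 7), ([0, 2], 14), 0),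
  ((1, 8), ([0, 2], 14), 1),
  ((1, 9), ([0, 1, 2], 12), 0),
  ((1, 10), ([0, 2], 14), 0),
  ((1, 11), ([0, 0, 2], 21), 0),
  ((1, 12), ([0, 2], 14), 0),
  ((1, 13), ([0, 2], 14), 0),
  ((1, 14), ([0, 0, 2], 21), 0),
  ((1, 15), ([0, 2], 14), 0),
  ((3, 0), ([0, 0, 2], 21), 0),
  ((3, 1), ([0, 2], 14), 0),
  ((3, 2), ([0, 1, 2], 12), 0),
  ((3, 3), ([0, 2], 14), 0),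
  ((3, 4), ([0, 2], 14), 0),
  ((3, 5), ([0, 2], 14), 0),
  ((3, 6), ([0, 2], 14), 0),
  ((3, 7), ([0, 2], 14), 0),
  ((3, 8), ([0, 2], 14), 0),
  ((3, 9), ([0, 0, 2], 21), 0),
  ((3, 10), ([0, 2], 14), 0),
  ((3, 11), ([0, 2], 14), 0),
  ((3, 12), ([0, 2], 14), 1),
  ((3, 13), ([0, 2], 14), 0),
  ((3, 14), ([0, 2], 14), 0)]

/-- A base along a cycle of the element of order eight. -/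
def levelsV : List Level := [
  ⟨79, [[3], [4], [5], [0, 2], [1, 2, 3, 4, 1, 2, 3, 4, 1, 2, 3, 4, 1, 2, 3, 4, 1, 2, 3, 4, 1, 2, 3, 4, 1, 2, 3, 4]], [79, 137, 46, 81, 1365, 213, 217, 1366, 82, 1367, 140, 949, 1769, 1381, 962, 934, 135, 169, 1926, 167, 1770, 1771, 1875, 141, 574, 964, 142, 1075, 1072, 913, 1166, 916, 1799, 956, 1392, 607, 839, 84, 1323, 99, 1601, 1737, 1738, 1978, 1624, 103, 170, 1540, 1550, 2013, 1393, 1912, 2001, 219, 218, 1349, 917, 918, 1396, 1350, 1068, 691, 1077, 1255, 767, 1527, 320, 1383, 1748, 1488, 1745, 963, 1775, 503, 1779, 1732, 1739, 903, 56, 100, 1199, 1182, 1694, 1336, 1818, 1944, 172, 1137, 1546, 1526, 465, 515, 1746, 347, 230, 1078, 340, 1756, 1105, 1352, 1353,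 1780, 1312, 1079, 1373, 840, 838, 1781, 315, 1816, 1110, 548, 1338, 1337, 1817, 1394, 101, 1194, 794, 1744, 1441, 259, 505, 504, 1504, 1484, 545, 544, 1757, 1984, 171, 263, 389, 2008, 2056, 258], [(0, 0), (1, 0), (2, 0), (4, 0), (2, 1), (3, 1), (4, 1), (2, 2), (4, 2), (0, 3), (4, 3), (0, 4), (1, 4), (2, 4), (3, 4), (0, 5), (3, 5), (4, 5), (0, 6), (4, 6), (2, 7), (3, 7), (0, 8), (4, 8), (2, 9), (1, 10), (4, 10), (0, 11), (1, 11), (2, 11), (3, 11), (2, 12), (2, 13), (0, 14), (3, 14), (4, 14), (1, 16), (4, 16), (0, 17), (4, 17), (0, 18), (1, 18), (2, 18), (3, 18), (1, 19), (2, 19), (4, 19), (0, 20), (2, 20), (0, 21), (3, 21), (4, 21), (1, 23), (3, 23), (4, 23), (0, 24), (2, 24), (0, 25), (4, 25),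 (4, 26), (1, 27), (2, 27), (2, 28), (0, 30), (0, 32), (4, 32), (0, 33), (4, 33), (1, 34), (4, 34), (0, 35), (4, 35), (0, 36), (4, 36), (4, 37), (1, 38), (2, 38), (1, 39), (2, 39), (4, 39), (0, 40), (2, 40), (2, 41), (0, 43), (3, 43), (2, 45), (4, 45), (1, 47), (1, 50), (4, 50), (4, 51), (0, 52), (4, 52), (3, 53), (4, 53), (0, 54), (4, 54), (1, 55), (3, 55), (0, 57), (1, 58), (4, 58), (0, 59), (4, 59), (0, 62), (0, 63), (4, 63), (3, 64), (4, 64), (1, 65), (3, 66), (0, 68), (1, 70), (2, 70), (1, 71), (2, 78), (4, 78), (1, 80), (0, 83), (1, 84), (0, 86), (1, 90), (2, 90), (4, 94), (3, 95), (2, 96), (3, 96), (4, 96), (0, 97), (0, 116), (3, 121), (3, 126), (4, 127), (3, 128), (3, 130)]⟩,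
  ⟨934, [[0], [5, 3, 2, 4, 3, 5], [3, 5, 3, 0, 1, 0, 1], [0, 2, 4, 3, 2, 3, 4], [3, 2, 3, 5, 1, 2, 3, 4, 1, 2, 3, 4, 1, 2, 3, 4, 1, 2, 3, 4, 1, 2, 3, 4, 1, 2, 3, 4, 1, 2, 3, 4, 5, 3, 2, 3]], [934, 1365, 1488, 1818, 1394, 1746, 170, 1816, 2013, 1779, 103, 1745, 1912, 340, 1775, 81, 217, 172, 1312, 964, 1199, 903, 1526, 544, 171, 1338, 548, 1182, 956, 1350, 258, 230, 1110, 137, 1349, 101, 1336, 1799, 1771, 515, 1072, 918, 1075, 1068, 167, 505, 1756, 347, 913, 46, 219, 917, 1352, 504, 840, 320, 838, 691, 99, 574], [(0, 0), (1, 0), (2, 0), (1, 1), (2, 1), (4, 1), (2, 2), (3, 2), (3, 3), (4, 3), (2, 4), (3, 4), (4, 4), (3, 5), (1, 6), (2, 6), (3, 6), (3, 7), (4, 7), (2, 8), (4, 8), (2, 9), (1, 10),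 (2, 10), (3, 11), (4, 11), (2, 12), (3, 12), (4, 12), (1, 13), (3, 13), (2, 14), (4, 14), (4, 15), (1, 16), (3, 18), (1, 19), (3, 19), (4, 19), (4, 20), (4, 21), (4, 22), (4, 23), (1, 24), (1, 26), (1, 29), (3, 29), (4, 30), (1, 31), (3, 31), (0, 34), (4, 35), (1, 39), (2, 40), (3, 41), (2, 42), (3, 42), (4, 45), (0, 48)]⟩,
  ⟨1396, [[2], [0, 3, 4, 3], [3, 2, 3, 5, 1, 2, 3, 4, 1, 2, 3, 4, 1, 2, 3, 4, 1, 2, 3, 4, 1, 2, 3, 4, 1, 2, 3, 4, 1, 2, 3, 4, 0, 5, 3, 2, 3]], [1396, 1781, 1392, 1484, 607, 1694, 1527, 1373, 1105, 1984, 1978, 1337, 916, 2056, 1441, 141, 142, 140, 218, 82], [(0, 0), (1, 0), (2, 0), (1, 1), (2, 1), (0, 2), (2, 2), (0, 3), (1, 3), (0, 5), (1, 7), (1, 8), (0, 9), (1, 10), (2,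 12), (2, 13), (2, 14), (0, 15), (1, 16)]⟩,
  ⟨794, [[2, 4, 3, 2, 3, 2, 4], [0, 2, 3, 2, 4, 3, 5, 1, 2, 3, 4, 1, 2, 3, 4, 1, 2, 3, 4, 1, 2, 3, 4, 1, 2, 3, 4, 1, 2, 3, 4, 1, 2, 3, 4, 5, 3, 2, 4, 3, 2], [2, 4, 3, 5, 3, 2, 3, 5, 1, 2, 3, 4, 1, 2, 3, 4, 1, 2, 3, 4, 1, 2, 3, 4, 1, 2, 3, 4, 1, 2, 3, 4, 1, 2, 3, 4, 5, 3, 2, 4, 3, 2, 5, 0, 1, 0, 1]], [794, 1737, 503, 949, 1393, 1194, 1255, 1137, 2008, 962, 1366, 1323], [(0, 0), (1, 0), (2, 0), (1, 1), (2, 1), (0, 2), (2, 2), (0, 3), (0, 4), (2, 4), (0, 5)]⟩,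
  ⟨956, [], [956], []⟩]

end CfsgLib.He.Out
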