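import Cfsg.Agent.Lib.He.Pres
import Cfsg.Agent.Lib.He.PermData
import Cfsg.Agent.Lib.PresCert.Table

/-!
Kernel checks of the action on 2058 points.
-/

set_option autoImplicit false
set_option maxRecDepth 100000

namespace CfsgLib.He

open CfsgLib.PresCert

/-- All checks of one kind for the three blocks. -/
def threeBlocks (P : ℕ → Bool) : Bool := P 0 && P 1 && P 2

theorem tab_inv0 : threeBlocks tab.invBlock = true := by decide +kernel

/-- The defining relations, each once. -/
def relData : List (List ℕ) := [[0, 1, 0, 1, 0, 1, 0, 1], [0, 2, 0, 2], [0, 3, 0, 3], [0, 4, 0, 4], [0, 5, 0, 5], [0, 6, 0, 6], [1, 2, 1, 2, 1, 2], [1, 3, 1, 3], [1, 4, 1, 4], [1, 5, 1, 5], [1, 6, 1, 6], [2, 3, 2, 3, 2, 3, 2, 3, 2, 3, 2, 3, 2, 3, 2, 3, 2, 3, 2, 3], [2, 4, 2, 4], [2, 5, 2, 5], [2, 6, 2, 6], [3, 4, 3, 4, 3, 4], [3, 5, 3, 5, 3, 5], [3, 6, 3, 6, 3, 6], [4, 5, 4, 5], [4, 6, 4, 6], [5, 6, 5, 6, 5, 6, 5, 6], [5, 6, 5, 6, 4], [0, 1, 2, 0, 1, 2, 0, 1, 2, 4], [2, 3, 2, 3, 2, 3, 2, 3, 2, 3, 0], [6, 5, 3, 2, 6, 5, 3, 2, 6, 5, 3, 2, 6, 5, 3, 2], [0, 0], [1, 1], [2, 2], [3, 3], [4, 4], [5, 5],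 [6, 6]]

theorem heRels_data : heRels.all (fun w => w.all (fun g => Nat.blt g 7) &&
    (relData.contains w || relData.contains w.reverse)) = true := by decide +kernel

theorem relFix0_0 : ((relData.drop 0).take 8).all (fun w => tab.fixBlock w 0) = true := by decide +kernel

theorem relFix0_1 : ((relData.drop 0).take 8).all (fun w => tab.fixBlock w 1) = true := by decide +kernel

theorem relFix0_2 : ((relData.drop 0).take 8).all (fun w => tab.fixBlock w 2) = true := by decide +kernel

theorem relFix8_0 : ((relData.drop 8).take 8).all (fun w => tab.fixBlock w 0) = true := by decide +kernel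

theorem relFix8_1 : ((relData.drop 8).take 8).all (fun w => tab.fixBlock w 1) = true := by decide +kernel

theorem relFix8_2 : ((relData.drop 8).take 8).all (fun w => tab.fixBlock w 2) = true := by decide +kernel

theorem relFix16_0 : ((relData.drop 16).take 8).all (fun w => tab.fixBlock w 0) = true := by decide +kernel

theorem relFix16_1 : ((relData.drop 16).take 8).all (fun w => tab.fixBlock w 1) = true := by decide +kernel

theorem relFix16_2 : ((relData.drop 16).take 8).all (fun w => tab.fixBlock w 2) = true := by decide +kernel

theorem relFix24_0 : ((relData.drop 24).take 8).all (fun w => tab.fixBlock w 0) = true := by decide +kernel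

theorem relFix24_1 : ((relData.drop 24).take 8).all (fun w => tab.fixBlock w 1) = true := by decide +kernel

theorem relFix24_2 : ((relData.drop 24).take 8).all (fun w => tab.fixBlock w 2) = true := by decide +kernel

theorem tab_tree : threeBlocks (treeBlock tab 15 treePars) = true := by decide +kernel

theorem tab_levels : levelsOk tab [0] levels = true := by decide +kernel

theorem levels_card : (levels.map fun l => l.pts.length).prod = 1958400 := by decide +kernel

theorem tab_subWords : subWords.all (fun w => w.all (fun g => Nat.blt g 7) &&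
    Nat.beq (tab.walk 0 w) 0) = true := by decide +kernel

theorem level_gens_sub : (List.range levels.length).all (fun k =>
    decide ((levels.getD k ⟨0, [], [], []⟩).gens =
      (levelIx.getD k []).map fun ix => ix.flatMap fun i => subWords.getD i [])) = true := by
  decide +kernel

theorem xWord_ix : xWord = xIx.flatMap (fun i => subWords.getD i []) ∧
    (∀ g ∈ xWord, g < 7) ∧ tab.walk 0 xWord = 0 := by
  decide +kernel

/-- The word moves every point but the first. -/
def moveBlock (b : ℕ) : Bool :=
  (List.range 1000).all fun j =>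
    let i := 1000 * b + j
    !(Nat.blt i tab.n) || Nat.beq i 0 || !(Nat.beq (tab.walk i xWord) i)

theorem x_moves : threeBlocks moveBlock = true := by decide +kernel

/-- The cycles of the element of order seventeen on the first suborbit, and the search. -/
def cyclesOk : Bool :=
  let l := levels.getD 0 ⟨0, [], [], []⟩
  let m := levels.length
  cycles.all (fun c => decide (c.length = 17) && (List.range 17).all fun i =>
      Nat.beq (tab.walk (c.getD i 0) xWord) (c.getD ((i + 1) % 17) 0)) &&
    l.pts.all (fun p => cycles.any fun c => c.contains p) &&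
    decide ((cycles.getD 0 []).take m = levels.map Level.base) &&
    (List.range (cycles.length - 1)).all (fun j =>
      noElement tab levels ((cycles.getD (j + 1) []).take m))

theorem tab_cycles : cyclesOk = true := by decide +kernel

end CfsgLib.He
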