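import Cfsg.Agent.Lib.He.Order
import Cfsg.Agent.Lib.He.PermCheck

/-!
The presented Held group on 2058 points: its order and the point stabiliser.
-/

set_option autoImplicit false
set_option maxRecDepth 100000

namespace CfsgLib.He

open CfsgLib.PresCert

theorem three_blocks {P : ℕ → Bool} (h : threeBlocks P = true) {b : ℕ} (hb : 1000 * b < 2058) :
    P b = true := by
  simp only [threeBlocks, Bool.and_eq_true] at h
  obtain rfl | rfl | rfl : b = 0 ∨ b = 1 ∨ b = 2 := by omega
  exacts [h.1.1, h.1.2, h.2]

theorem tabInv : tab.Inv := fun _ hb => three_blocks tab_inv0 hb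

theorem relData_fix {w : List ℕ} (hw : w ∈ relData) : tab.Fix w := by
  intro b hb
  obtain ⟨k, hk, rfl⟩ := List.getElem_of_mem hw
  have hlen : relData.length = 32 := by decide +kernel
  have key : ∀ lo, ((relData.drop lo).take 8).all (fun w => tab.fixBlock w b) = true →
      lo ≤ k → k < lo + 8 → tab.fixBlock relData[k] b = true := by
    intro lo h h1 h2
    rw [List.all_eq_true] at h
    refine h _ (List.mem_iff_getElem.2 ⟨k - lo, ?_, ?_⟩)
    · simp only [List.length_take, List.length_drop]; omega
    · simp only [List.getElem_take, List.getElem_drop, show lo + (k - lo) = k by omega]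
  have hb' : b = 0 ∨ b = 1 ∨ b = 2 := by
    have : tab.n = 2058 := rfl
    omega
  rcases Nat.lt_or_ge k 8 with h1 | h1
  · rcases hb' with rfl | rfl | rfl
    exacts [key 0 relFix0_0 (by omega) (by omega), key 0 relFix0_1 (by omega) (by omega),
      key 0 relFix0_2 (by omega) (by omega)]
  rcases Nat.lt_or_ge k 16 with h2 | h2
  · rcases hb' with rfl | rfl | rfl
    exacts [key 8 relFix8_0 (by omega) (by omega), key 8 relFix8_1 (by omega) (by omega),
      key 8 relFix8_2 (by omega) (by omega)]
  rcases Nat.lt_or_ge k 24 with h3 | h3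
  · rcases hb' with rfl | rfl | rfl
    exacts [key 16 relFix16_0 (by omega) (by omega), key 16 relFix16_1 (by omega) (by omega),
      key 16 relFix16_2 (by omega) (by omega)]
  · rcases hb' with rfl | rfl | rfl
    exacts [key 24 relFix24_0 (by omega) (by omega), key 24 relFix24_1 (by omega) (by omega),
      key 24 relFix24_2 (by omega) (by omega)]

/-- The permutation of a generator. -/
def genPerm (x : Cfsg.Spor.He.Gen) : Equiv.Perm (Fin tab.n) := tab.perm tabInv (genIx x)

theorem genIx_lt (x : Cfsg.Spor.He.Gen) : genIx x < 7 := by cases x <;> decide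

theorem perm_realised : Realised (tab.perm tabInv) tab (MonoidHom.id _) :=
  ⟨fun _ _ hg hi => (tabInv.spec hg hi).1, fun _ hg i => tab.perm_apply tabInv hg i⟩

theorem lift_eq_act (L : List (Cfsg.Spor.He.Gen × Bool)) :
    FreeGroup.lift genPerm (FreeGroup.mk L) =
      act (tab.perm tabInv) (L.map fun p => genIx p.1).reverse := by
  induction L with
  | nil =>
    rw [← FreeGroup.one_eq_mk, map_one]
    rfl
  | cons p L ih =>
    obtain ⟨x, b⟩ := p
    rw [show FreeGroup.mk ((x, b) :: L) = FreeGroup.mk [(x, b)] * FreeGroup.mk L from rfl, map_mul,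
      ih, List.map_cons, List.reverse_cons, act_append, act_cons, act_nil, one_mul]
    congr 1
    cases b
    · have e : FreeGroup.mk [(x, false)] = (FreeGroup.of x)⁻¹ := rfl
      rw [e, map_inv, FreeGroup.lift_apply_of]
      exact inv_eq_of_mul_eq_one_right (tab.perm_sq tabInv _)
    · exact FreeGroup.lift_apply_of

theorem perm_rels : ∀ w ∈ heRels, act (tab.perm tabInv) w = 1 := by
  intro w hw
  have h := heRels_data
  simp only [List.all_eq_true, Bool.and_eq_true, Bool.or_eq_true, Nat.blt_eq,
    List.contains_iff_mem] at h
  obtain ⟨hlt, hmem⟩ := h w hw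
  have one : ∀ v : List ℕ, (∀ g ∈ v, g < 7) → v ∈ relData → act (tab.perm tabInv) v = 1 := by
    intro v hv hvm
    refine Equiv.ext fun i => Fin.ext ?_
    have h1 := perm_realised.act_apply (w := v) hv i
    rw [MonoidHom.id_apply] at h1
    rw [h1, (relData_fix hvm).spec i.isLt]
    rfl
  rcases hmem with hm | hm
  · exact one w hlt hm
  · have h2 := one w.reverse (fun g hg => hlt g (List.mem_reverse.1 hg)) hm
    rw [act_reverse (ng := 7) (fun g _ => tab.perm_sq tabInv g) hlt, inv_eq_one] at h2
    exact h2

/-- The action on 2058 points. -/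
def phi : Cfsg.Spor.He →* Equiv.Perm (Fin tab.n) :=
  PresentedGroup.toGroup (f := genPerm) fun r hr => by
    have hr' : r ∈ relList := relList_mem.2 hr
    rw [← FreeGroup.mk_toWord (x := r), lift_eq_act]
    exact perm_rels _ (List.mem_map.2 ⟨r, hr', rfl⟩)

theorem realised : Realised heGen tab phi := by
  refine ⟨fun _ _ hg hi => (tabInv.spec hg hi).1, fun g hg i => ?_⟩
  rw [heGen, phi, PresentedGroup.toGroup.of]
  have e : genIx (genAt.getD g .a) = g := by
    have h7 : g < 7 := hg
    interval_cases g <;> rfl
  rw [genPerm, e, tab.perm_apply tabInv hg]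

theorem tree_ok : ∀ b, 1000 * b < tab.n → treeBlock tab 15 treePars b = true :=
  fun _ hb => three_blocks tab_tree hb

/-- The stabiliser of the first point is of order at most 1958400, and the group is transitive. -/
theorem stab_le : (∀ i j : Fin tab.n, ∃ m, phi m i = j) ∧
    Nat.card (fixSub phi [0]) ≤ (levels.map fun l => l.pts.length).prod := by
  haveI := he_le.1
  obtain ⟨h1, h2⟩ := card_trans realised (show 0 < tab.n by decide +kernel) tree_ok
  refine ⟨h1, ?_⟩
  have h3 := he_le.2
  have hn : tab.n = 2058 := rfl
  rw [h2, hn] at h3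
  rw [levels_card]
  omega

/-- The order of the presented Held group. -/
theorem card_he : Finite Cfsg.Spor.He ∧ Nat.card Cfsg.Spor.He = 4030387200 := by
  haveI := he_le.1
  refine ⟨he_le.1, ?_⟩
  rw [(card_trans realised (show 0 < tab.n by decide +kernel) tree_ok).2,
    (base_tight realised tab_levels stab_le.2).1, levels_card]
  norm_num [show tab.n = 2058 from rfl]

theorem base_trivial : fixSub phi ([0] ++ levels.map Level.base) = ⊥ := by
  haveI := he_le.1
  exact (base_tight realised tab_levels stab_le.2).2

theorem phi_injective : Function.Injective phi := by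
  refine (MonoidHom.ker_eq_bot_iff _).1 (eq_bot_iff.2 ?_)
  rw [← base_trivial]
  intro m hm i _
  rw [MonoidHom.mem_ker.1 hm]
  rfl

/-- The subgroup generated by the seven words. -/
def subH : Subgroup Cfsg.Spor.He := genGrp subWords heGen

theorem act_flatMap_mem (ix : List ℕ) :
    act heGen (ix.flatMap fun i => subWords.getD i []) ∈ subH := by
  induction ix with
  | nil => simp [act_nil]
  | cons i ix ih =>
    rw [List.flatMap_cons, act_append]
    refine Subgroup.mul_mem _ ih ?_
    by_cases hi : i < subWords.length
    · exact Subgroup.subset_closure ⟨_, by rw [List.getD_eq_getElem _ _ hi]; exact List.getElem_mem hi, rfl⟩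
    · rw [List.getD_eq_default _ _ (by omega), act_nil]
      exact Subgroup.one_mem _

/-- The stabiliser of the first point is the subgroup generated by the seven words. -/
theorem subH_eq : subH = fixSub phi [0] := by
  haveI := he_le.1
  refine le_antisymm ?_ ?_
  · refine (Subgroup.closure_le _).2 ?_
    rintro _ ⟨w, hw, rfl⟩
    intro i hi
    have h := tab_subWords
    simp only [List.all_eq_true, Bool.and_eq_true, Nat.blt_eq, Nat.beq_eq] at h
    refine Fin.ext ?_
    rw [realised.act_apply (h w hw).1, List.mem_singleton.1 hi, (h w hw).2]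
  · refine fixSub_le_of_gens realised tab_levels (fun l hl w hw => ?_)
      (base_trivial ▸ bot_le) stab_le.2
    obtain ⟨k, hk, rfl⟩ := List.getElem_of_mem hl
    have h := level_gens_sub
    simp only [List.all_eq_true, List.mem_range, decide_eq_true_eq] at h
    have e := h k hk
    rw [List.getD_eq_getElem _ _ hk] at e
    rw [e] at hw
    obtain ⟨ix, -, rfl⟩ := List.mem_map.1 hw
    exact act_flatMap_mem ix

theorem card_subH : Nat.card subH = 1958400 := by
  haveI := he_le.1
  rw [subH_eq, (base_tight realised tab_levels stab_le.2).1, levels_card]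

theorem index_subH : subH.index = 2058 := by
  haveI := card_he.1
  have h := subH.card_mul_index
  rw [card_subH, card_he.2] at h
  omega

end CfsgLib.He
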