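import Cfsg.Prelude.Def_Spor_He
import Cfsg.Agent.Lib.PresCert.Bound

/-!
The defining relations of the presented Held group as words.
-/

set_option autoImplicit false

namespace CfsgLib.He

open Cfsg.Spor Cfsg.Spor.He CfsgLib.PresCert

/-- The generators in their printed order. -/
def genAt : List Gen := [.a, .b, .c, .d, .e, .f, .g]

/-- The number of a generator. -/
def genIx : Gen → ℕ
  | .a => 0
  | .b => 1
  | .c => 2
  | .d => 3
  | .e => 4
  | .f => 5
  | .g => 6

theorem genAt_genIx : ∀ x : Gen, genAt.getD (genIx x) .a = x := by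
  intro x; cases x <;> rfl

/-- The generators of the group by number. -/
def heGen (i : ℕ) : Cfsg.Spor.He := PresentedGroup.of (genAt.getD i .a)

theorem heGen_genIx (x : Gen) : heGen (genIx x) = PresentedGroup.of x := by
  rw [heGen, genAt_genIx]

/-- The relators as a list. -/
def relList : List (FreeGroup Gen) :=
  (coxNodes He.edges).flatMap (fun x => (coxNodes He.edges).map fun y =>
    (FreeGroup.of x * FreeGroup.of y) ^ coxLabel He.edges x y) ++ He.extra

theorem relList_mem {r : FreeGroup Gen} :
    r ∈ relList ↔ r ∈ coxRelators He.edges ∪ {r | r ∈ He.extra} := by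
  simp only [relList, List.mem_append, List.mem_flatMap, List.mem_map, coxRelators, Set.mem_union,
    Set.mem_ofPred_eq]
  constructor
  · rintro (⟨x, hx, y, hy, rfl⟩ | h)
    · exact Or.inl ⟨x, hx, y, hy, rfl⟩
    · exact Or.inr h
  · rintro (⟨x, hx, y, hy, rfl⟩ | h)
    · exact Or.inl ⟨x, hx, y, hy, rfl⟩
    · exact Or.inr h

theorem relList_one {r : FreeGroup Gen} (h : r ∈ relList) :
    PresentedGroup.mk (coxRelators He.edges ∪ {r | r ∈ He.extra}) r = 1 :=
  PresentedGroup.mk_eq_one_iff.2 (Subgroup.subset_normalClosure (relList_mem.1 h))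

theorem nodes_all : ∀ i, i < 7 → genAt.getD i .a ∈ coxNodes He.edges := by decide +kernel

theorem heGen_sq : ∀ i, i < 7 → heGen i * heGen i = 1 := by
  intro i hi
  have hr : (FreeGroup.of (genAt.getD i .a) * FreeGroup.of (genAt.getD i .a)) ^ 1 ∈ relList := by
    simp only [relList, List.mem_append, List.mem_flatMap, List.mem_map]
    exact Or.inl ⟨_, nodes_all i hi, _, nodes_all i hi, by simp [coxLabel]⟩
  have h := relList_one hr
  rw [pow_one, map_mul] at h
  exact h

theorem of_sq (x : Gen) :
    (PresentedGroup.of x : Cfsg.Spor.He) * PresentedGroup.of x = 1 := by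
  rw [← heGen_genIx]
  exact heGen_sq _ (by cases x <;> decide)

theorem act_append_one (w : List ℕ) (g : ℕ) : act heGen (w ++ [g]) = heGen g * act heGen w := by
  rw [act_append, act_cons, act_nil, one_mul]

theorem mk_eq_act (L : List (Gen × Bool)) :
    PresentedGroup.mk (coxRelators He.edges ∪ {r | r ∈ He.extra}) (FreeGroup.mk L) =
      act heGen (L.map fun p => genIx p.1).reverse := by
  induction L with
  | nil =>
    rw [← FreeGroup.one_eq_mk, map_one]
    rfl
  | cons p L ih =>
    obtain ⟨x, b⟩ := p
    rw [show FreeGroup.mk ((x, b) :: L) = FreeGroup.mk [(x, b)] * FreeGroup.mk L from rfl, map_mul,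
      ih, List.map_cons, List.reverse_cons, act_append_one, heGen_genIx]
    congr 1
    cases b
    · have e : FreeGroup.mk [(x, false)] = (FreeGroup.of x)⁻¹ := rfl
      rw [e, map_inv]
      exact inv_eq_of_mul_eq_one_right (of_sq x)
    · rfl

/-- The defining relations as words. -/
def heRels : List (List ℕ) :=
  relList.map fun r => ((r.toWord.map fun p => genIx p.1)).reverse

theorem heRels_act : ∀ w ∈ heRels, act heGen w = 1 := by
  intro w hw
  obtain ⟨r, hr, rfl⟩ := List.mem_map.1 hw
  rw [← mk_eq_act, FreeGroup.mk_toWord, relList_one hr]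

theorem closure_gens : genGrp ((List.range 7).map fun g => [g]) heGen = ⊤ := by
  rw [eq_top_iff, ← PresentedGroup.closure_range_of, Subgroup.closure_le]
  rintro _ ⟨x, rfl⟩
  refine Subgroup.subset_closure ⟨[genIx x], ?_, ?_⟩
  · exact List.mem_map.2 ⟨_, List.mem_range.2 (by cases x <;> decide), rfl⟩
  · rw [act_cons, act_nil, one_mul, heGen_genIx]

/-- Every homomorphism to a commutative group is trivial. -/
theorem hom_trivial {A : Type*} [CommGroup A] (f : Cfsg.Spor.He →* A) (z : Cfsg.Spor.He) :
    f z = 1 := by
  have sq : ∀ x : Gen, f (PresentedGroup.of x) * f (PresentedGroup.of x) = 1 := fun x => by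
    rw [← map_mul, of_sq, map_one]
  have sq2 : ∀ x : Gen, f (PresentedGroup.of x) ^ 2 = 1 := fun x => by rw [pow_two, sq]
  have rel : ∀ r ∈ relList, f (PresentedGroup.mk _ r) = 1 := fun r hr => by
    rw [relList_one hr, map_one]
  have cox : ∀ x y : Gen, x ∈ coxNodes He.edges → y ∈ coxNodes He.edges →
      (f (PresentedGroup.of x) * f (PresentedGroup.of y)) ^ coxLabel He.edges x y = 1 := by
    intro x y hx hy
    have h := rel ((FreeGroup.of x * FreeGroup.of y) ^ coxLabel He.edges x y) (by
      simp only [relList, List.mem_append, List.mem_flatMap, List.mem_map]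
      exact Or.inl ⟨x, hx, y, hy, rfl⟩)
    simpa [PresentedGroup.of] using h
  have three : ∀ x y : Gen, x ∈ coxNodes He.edges → y ∈ coxNodes He.edges →
      coxLabel He.edges x y = 3 → f (PresentedGroup.of x) = f (PresentedGroup.of y) := by
    intro x y hx hy hl
    have h := cox x y hx hy
    rw [hl, pow_succ, mul_pow, sq2, sq2, one_mul, one_mul] at h
    calc f (PresentedGroup.of x)
        = f (PresentedGroup.of x) * (f (PresentedGroup.of y) * f (PresentedGroup.of y)) := by
          rw [sq, mul_one]
      _ = f (PresentedGroup.of y) := by rw [← mul_assoc, h, one_mul]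
  have hbc := three .b .c (by decide) (by decide) (by decide)
  have hde := three .d .e (by decide) (by decide) (by decide)
  have hdf := three .d .f (by decide) (by decide) (by decide)
  have hgd := three .g .d (by decide) (by decide) (by decide)
  have e1 := rel (He.e * ((He.f * He.g) ^ 2)⁻¹) (by simp [relList, He.extra])
  have e2 := rel (He.e * ((He.a * He.b * He.c) ^ 3)⁻¹) (by simp [relList, He.extra])
  have e3 := rel (He.a * ((He.c * He.d) ^ 5)⁻¹) (by simp [relList, He.extra])
  simp only [map_mul, map_inv, map_pow, ← PresentedGroup.of.eq_def] at e1 e2 e3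
  have hd : f (PresentedGroup.of .d) = 1 := by
    have hfg : f (PresentedGroup.of .f) * f (PresentedGroup.of .g) = 1 := by
      rw [← hdf, hgd, sq]
    rw [hfg, one_pow, inv_one, mul_one, ← hde] at e1
    exact e1
  rw [hd] at hde hdf hgd
  have ha : f (PresentedGroup.of .a) = f (PresentedGroup.of .c) := by
    rw [hd, mul_one] at e3
    rw [mul_inv_eq_one.1 e3, pow_succ, show 4 = 2 * 2 from rfl, pow_mul, sq2, one_pow, one_mul]
  have ha1 : f (PresentedGroup.of .a) = 1 := by
    rw [hbc, mul_assoc, sq, mul_one, ← hde, one_mul, inv_eq_one, pow_succ, sq2, one_mul]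
      at e2
    exact e2
  have hall : ∀ x : Gen, f (PresentedGroup.of x) = 1 := by
    intro x
    cases x
    · exact ha1
    · rw [hbc, ← ha, ha1]
    · rw [← ha, ha1]
    · exact hd
    · exact hde.symm
    · exact hdf.symm
    · exact hgd
  have hf : f = 1 := PresentedGroup.ext fun x => by rw [hall x]; rfl
  rw [hf]
  rfl

theorem perfect : commutator Cfsg.Spor.He = ⊤ := by
  rw [← Abelianization.ker_of, eq_top_iff]
  intro z _
  exact hom_trivial Abelianization.of z

end CfsgLib.He
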