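import Cfsg.Agent.Lib.He.Perm

/-!
The stabiliser as the image of the printed subgroup.
-/

set_option autoImplicit false

namespace CfsgLib.He

open CfsgLib.PresCert Cfsg.Spor

/-- The printed generators of the stabiliser. -/
def printedGens : List (FreeGroup He.Gen) :=
  [He.a, He.c, He.d, He.e, He.f, (He.a * He.b) ^ 2, (He.b * He.c * He.d * He.e) ^ 7]

theorem printedGens_words :
    printedGens.map (fun r => r.toWord.map fun p => genIx p.1) = subWords := by
  decide +kernel

theorem printed_mk (r : FreeGroup He.Gen) (hr : ∀ p ∈ r.toWord, genIx p.1 < 7) :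
    act heGen (r.toWord.map fun p => genIx p.1) =
      (PresentedGroup.mk (coxRelators He.edges ∪ {r | r ∈ He.extra}) r)⁻¹ := by
  conv_rhs => rw [← FreeGroup.mk_toWord (x := r), mk_eq_act]
  rw [act_reverse (ng := 7) (fun g hg => heGen_sq g hg) (fun g hg => ?_), inv_inv]
  obtain ⟨p, hp, rfl⟩ := List.mem_map.1 hg
  exact hr p hp

theorem printed_eq :
    (Subgroup.closure ({He.a, He.c, He.d, He.e, He.f, (He.a * He.b) ^ 2,
      (He.b * He.c * He.d * He.e) ^ 7} : Set (FreeGroup He.Gen))).map
      (PresentedGroup.mk (coxRelators He.edges ∪ {r | r ∈ He.extra})) = subH := by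
  have hset : ({He.a, He.c, He.d, He.e, He.f, (He.a * He.b) ^ 2,
      (He.b * He.c * He.d * He.e) ^ 7} : Set (FreeGroup He.Gen)) = {r | r ∈ printedGens} := by
    ext r
    simp [printedGens]
  have hlt : ∀ x : He.Gen, genIx x < 7 := fun x => by cases x <;> decide
  rw [hset, MonoidHom.map_closure]
  refine le_antisymm ((Subgroup.closure_le _).2 ?_) ((Subgroup.closure_le _).2 ?_)
  · rintro _ ⟨r, hr, rfl⟩
    rw [← inv_inv (PresentedGroup.mk _ r), ← printed_mk r fun p _ => hlt p.1]
    refine Subgroup.inv_mem _ (Subgroup.subset_closure ⟨_, ?_, rfl⟩)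
    rw [← printedGens_words]
    exact List.mem_map.2 ⟨r, hr, rfl⟩
  · rintro _ ⟨w, hw, rfl⟩
    rw [← printedGens_words] at hw
    obtain ⟨r, hr, rfl⟩ := List.mem_map.1 hw
    rw [printed_mk r fun p _ => hlt p.1]
    exact Subgroup.inv_mem _ (Subgroup.subset_closure ⟨r, hr, rfl⟩)

end CfsgLib.He
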