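import Cfsg.Agent.Lib.He.Blocks

/-!
The faithful action of the stabiliser on the blocks, as a homomorphism.
-/

set_option autoImplicit false
set_option maxRecDepth 100000

namespace CfsgLib.He

open CfsgLib.PresCert

/-- The action of the stabiliser on the blocks. -/
noncomputable def tau : subH →* Equiv.Perm (Fin 85) where
  toFun m := (maps_exists m.2).choose
  map_one' := (maps_exists (1 : subH).2).choose_spec.unique Maps.one
  map_mul' a b := (maps_exists (a * b).2).choose_spec.unique
    ((maps_exists a.2).choose_spec.mul (maps_exists b.2).choose_spec)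

theorem tau_maps (m : subH) : Maps m.val (tau m) := (maps_exists m.2).choose_spec

theorem subWord_mem (g : ℕ) : act heGen (subWords.getD g []) ∈ subH := by
  simpa using act_flatMap_mem [g]

/-- The generators of the stabiliser. -/
def subGen (g : ℕ) : subH := ⟨act heGen (subWords.getD g []), subWord_mem g⟩

/-- The action on the blocks, on the points of the table. -/
noncomputable def tauT : subH →* Equiv.Perm (Fin tabB.n) := tau

theorem realisedB : Realised subGen tabB tauT := by
  refine ⟨fun g i hg hi => tabB_lt (levelsB_ok.2.2.1 ▸ hg) hi, fun g hg i => ?_⟩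
  have hg7 : g < 7 := levelsB_ok.2.2.1 ▸ hg
  have hgl : g < subWords.length := by have := levelsB_ok.2.2.2; omega
  have h0 := blocks_ok.2.1
  simp only [List.all_eq_true, List.mem_range, Bool.and_eq_true, Nat.blt_eq, Bool.not_eq_true',
    List.isEmpty_eq_false_iff_exists_mem] at h0
  obtain ⟨hlt, p, hp⟩ := h0 i.val i.isLt
  have h1 := tau_maps (subGen g) i ⟨p, hlt p hp⟩ hp
  show ((tau (subGen g) i : Fin 85) : ℕ) = tabB.img g i.val
  refine blocks_unique h1 ?_
  have h := blocks_map
  simp only [List.all_eq_true, List.mem_range, Bool.and_eq_true, List.contains_iff_mem] at h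
  have hw := tab_subWords
  simp only [List.all_eq_true, Bool.and_eq_true, Nat.blt_eq] at hw
  show ((phi (act heGen (subWords.getD g [])) ⟨p, hlt p hp⟩ : Fin tab.n) : ℕ) ∈ _
  rw [realised.act_apply (hw _ (by
    rw [List.getD_eq_getElem _ _ hgl]; exact List.getElem_mem _)).1]
  exact (h g hg7 i.val i.isLt).2 p hp

theorem tau_injective : Function.Injective tau := by
  suffices h : Function.Injective tauT from h
  haveI := card_he.1
  have hc : Nat.card (fixSub tauT []) ≤ (levelsB.map fun l => l.pts.length).prod := by
    rw [fixSub_nil, Subgroup.card_top, card_subH, levelsB_ok.2.1]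
  have hb := (base_tight realisedB levelsB_ok.1 hc).2
  refine (MonoidHom.ker_eq_bot_iff _).1 (eq_bot_iff.2 ?_)
  rw [← hb]
  intro m hm i _
  rw [MonoidHom.mem_ker.1 hm]
  rfl

end CfsgLib.He
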